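import Groth.Agent.Lib.PBasis.Separable
import Groth.Agent.Lib.PBasis.Field
import Groth.Agent.Lib.PBasis.Perfect
import Mathlib.RingTheory.Kaehler.Basic
import Mathlib.RingTheory.LocalRing.ResidueField.Basic

/-!
# Small coefficient subrings of Artinian local algebras in characteristic `p`

Given a local algebra `Λ'` with nilpotent maximal ideal over a field `k`, such that only finitely
many relations appear between the differentials of `k` in the residue field `K`, a coefficient field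
is chosen which is compatible with all but finitely many members of a p-basis of `k`. It follows
that a finite set lies in a local subalgebra that is essentially of finite type and whose maximal
ideal is generated by given generators of the maximal ideal of `Λ'`.
-/

universe u

open IsLocalRing
open scoped TensorProduct

namespace Groth.Agent.Lib.Smoothing.Char.Coefficient

open Groth.Agent.Lib.PBasis EGA41

theorem exists_finset_closure {K : Type u} [Field K] (Y : Set K) {c : K}
    (hc : c ∈ Subfield.closure Y) :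
    ∃ T : Finset K, (T : Set K) ⊆ Y ∧ c ∈ Subfield.closure (T : Set K) := by
  classical
  induction hc using Subfield.closure_induction with
  | mem x hx => exact ⟨{x}, by simpa using hx, Subfield.subset_closure (by simp)⟩
  | one => exact ⟨∅, by simp, one_mem _⟩
  | add x y _ _ hx hy =>
    obtain ⟨S, hS, hx⟩ := hx
    obtain ⟨T, hT, hy⟩ := hy
    exact ⟨S ∪ T, by simp [hS, hT], add_mem (Subfield.closure_mono (by simp) hx)
      (Subfield.closure_mono (by simp) hy)⟩
  | neg x _ hx => obtain ⟨S, hS, hx⟩ := hx; exact ⟨S, hS, neg_mem hx⟩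
  | inv x _ hx => obtain ⟨S, hS, hx⟩ := hx; exact ⟨S, hS, inv_mem hx⟩
  | mul x y _ _ hx hy =>
    obtain ⟨S, hS, hx⟩ := hx
    obtain ⟨T, hT, hy⟩ := hy
    exact ⟨S ∪ T, by simp [hS, hT], mul_mem (Subfield.closure_mono (by simp) hx)
      (Subfield.closure_mono (by simp) hy)⟩

/-- If `G` generates `K` over `K^p`, then it does so over every `K^(p^m)`. -/
theorem closure_pow_union_eq_top {k K : Type u} [Field k] [Field K] [Algebra k K] (p : ℕ)
    [Fact p.Prime] [CharP K p] (Y G : Set K) (hY : Subfield.closure Y = ⊤)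
    (hG : Field.FF p (⊥ : Subfield k) G = ⊤) :
    ∀ m : ℕ, Subfield.closure ((fun y => y ^ p ^ m) '' Y ∪ G) = ⊤ := by
  have : ExpChar K p := ExpChar.prime Fact.out
  intro m
  induction m with
  | zero => exact top_le_iff.1 (hY.ge.trans (Subfield.closure_mono fun y hy => Or.inl ⟨y, hy, by simp⟩))
  | succ m ih =>
    set S := Subfield.closure ((fun y => y ^ p ^ (m + 1)) '' Y ∪ G) with hS
    have hP : ∀ a : (⊥ : Subfield k), algebraMap (⊥ : Subfield k) K a ∈ S := fun a =>
      (bot_le : (⊥ : Subfield k) ≤ S.comap (algebraMap k K)) a.2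
    let SI : IntermediateField (⊥ : Subfield k) K := S.toIntermediateField hP
    have hle : Field.FF p (⊥ : Subfield k) G ≤ SI := by
      refine IntermediateField.adjoin_le_iff.2 (Set.union_subset ?_ fun g hg => ?_)
      · rintro _ ⟨y, rfl⟩
        have hfr : (⊤ : Subfield K) ≤ S.comap (frobenius K p) := by
          rw [← ih, Subfield.closure_le]
          rintro z (⟨w, hw, rfl⟩ | hz)
          · show (w ^ p ^ m) ^ p ∈ S
            rw [← pow_mul, ← pow_succ]
            exact Subfield.subset_closure (Or.inl ⟨w, hw, rfl⟩)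
          · show z ^ p ∈ S
            exact pow_mem (show z ∈ S from Subfield.subset_closure (Or.inr hz)) p
        exact hfr (Subfield.mem_top y)
      · exact Subfield.subset_closure (Or.inr hg)
    exact top_le_iff.1 fun z _ => hle (hG ▸ IntermediateField.mem_top)

theorem exists_finset_subring {Λ' K : Type u} [CommRing Λ'] [Field K] (σ : K →+* Λ') (X : Set Λ')
    {e : Λ'} (he : e ∈ Subring.closure (Set.range σ ∪ X)) :
    ∃ C : Finset K, e ∈ Subring.closure (σ '' (C : Set K) ∪ X) := by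
  classical
  induction he using Subring.closure_induction with
  | mem x hx =>
    rcases hx with ⟨c, rfl⟩ | hx
    · exact ⟨{c}, Subring.subset_closure (Or.inl ⟨c, by simp, rfl⟩)⟩
    · exact ⟨∅, Subring.subset_closure (Or.inr hx)⟩
  | zero => exact ⟨∅, zero_mem _⟩
  | one => exact ⟨∅, one_mem _⟩
  | add x y _ _ hx hy =>
    obtain ⟨S, hx⟩ := hx
    obtain ⟨T, hy⟩ := hy
    refine ⟨S ∪ T, add_mem (Subring.closure_mono (Set.union_subset_union_left _ ?_) hx)
      (Subring.closure_mono (Set.union_subset_union_left _ ?_) hy)⟩ <;>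
      exact Set.image_mono (by simp)
  | neg x _ hx => obtain ⟨S, hx⟩ := hx; exact ⟨S, neg_mem hx⟩
  | mul x y _ _ hx hy =>
    obtain ⟨S, hx⟩ := hx
    obtain ⟨T, hy⟩ := hy
    refine ⟨S ∪ T, mul_mem (Subring.closure_mono (Set.union_subset_union_left _ ?_) hx)
      (Subring.closure_mono (Set.union_subset_union_left _ ?_) hy)⟩ <;>
      exact Set.image_mono (by simp)

/-- The elements of the form `a/s` with `a` and `s` in `S`. -/
def loc {Λ' : Type u} [CommRing Λ'] {S' : Type*} [SetLike S' Λ'] [SubringClass S' Λ'] (S : S') :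
    Subring Λ' where
  carrier := {x | ∃ a ∈ S, ∃ s ∈ S, IsUnit s ∧ x * s = a}
  mul_mem' := by
    rintro x y ⟨a, ha, s, hs, hu, h⟩ ⟨b, hb, t, ht, hv, h'⟩
    exact ⟨a * b, mul_mem ha hb, s * t, mul_mem hs ht, hu.mul hv, by rw [← h, ← h']; ring⟩
  one_mem' := ⟨1, one_mem S, 1, one_mem S, isUnit_one, mul_one _⟩
  add_mem' := by
    rintro x y ⟨a, ha, s, hs, hu, h⟩ ⟨b, hb, t, ht, hv, h'⟩
    exact ⟨a * t + b * s, add_mem (mul_mem ha ht) (mul_mem hb hs), s * t, mul_mem hs ht, hu.mul hv,
      by rw [← h, ← h']; ring⟩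
  zero_mem' := ⟨0, zero_mem S, 1, one_mem S, isUnit_one, mul_one _⟩
  neg_mem' := by
    rintro x ⟨a, ha, s, hs, hu, h⟩
    exact ⟨-a, neg_mem ha, s, hs, hu, by rw [← h]; ring⟩

variable {k Λ Λ' : Type u} [Field k] (p : ℕ) [Fact p.Prime] [CharP k p] [CommRing Λ] [Algebra k Λ]
  [CommRing Λ'] [IsLocalRing Λ'] [Algebra k Λ'] (ι : Λ →ₐ[k] Λ')

/-- A coefficient field adapted to `k` and to `ι`. -/
structure Datum (m : ℕ) where
  /-- the coefficient field -/
  σ : ResidueField Λ' →+* Λ'
  residue_σ : ∀ c, residue Λ' (σ c) = c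
  /-- elements whose images are their own representatives -/
  T : Set Λ
  σ_T : ∀ t ∈ T, σ (residue Λ' (ι t)) = ι t
  closure_T : Subfield.closure ((residue Λ') '' (ι '' T)) = ⊤
  /-- the exceptional elements of `k` -/
  B₀ : Finset k
  /-- elements of `k` represented by themselves -/
  T₁ : Set k
  T₁_sub : algebraMap k Λ '' T₁ ⊆ T
  closure_T₁ : Subfield.closure (T₁ ∪ (B₀ : Set k)) = ⊤

include p in
theorem exists_datum (hgen : ∀ c : ResidueField Λ', ∃ a s : Λ, residue Λ' (ι s) ≠ 0 ∧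
      c * residue Λ' (ι s) = residue Λ' (ι a))
    (hker : Module.Finite (ResidueField Λ')
      (LinearMap.ker (KaehlerDifferential.mapBaseChange (⊥ : Subfield k) k (ResidueField Λ'))))
    {N : ℕ} (hN : maximalIdeal Λ' ^ N = ⊥) : Nonempty (Datum ι N) := by
  classical
  let P := (⊥ : Subfield k)
  let K := ResidueField Λ'
  have hk : ExpChar k p := ExpChar.prime Fact.out
  have : CharP Λ' p := charP_of_injective_ringHom (f := algebraMap k Λ') (RingHom.injective _) p
  have : CharP K p := charP_of_injective_ringHom (f := algebraMap k K) (RingHom.injective _) p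
  have : ExpChar K p := ExpChar.prime Fact.out
  have : ExpChar Λ' p := ExpChar.prime Fact.out
  have : CharP P p := RingHom.charP (algebraMap P k) (RingHom.injective _) p
  have : PerfectRing P p := by
    have : ExpChar P p := ExpChar.prime Fact.out
    refine PerfectRing.ofSurjective P p fun a => ?_
    obtain ⟨b, hb, hba⟩ := (bot_le : P ≤ P.map (frobenius k p)) a.2
    exact ⟨⟨b, hb⟩, Subtype.ext hba⟩
  -- a p-basis of `k` and the exceptional elements
  obtain ⟨B, hB⟩ := Separable.exists_pBasis' (k := k) p P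
  obtain ⟨b, hb⟩ := Field.isPBasis_iff_D.1 hB
  let bK := b.baseChange K
  obtain ⟨Zs, hZs⟩ : (LinearMap.ker (KaehlerDifferential.mapBaseChange P k K)).FG :=
    Module.Finite.iff_fg.1 hker
  let B₀' : Finset B := Zs.biUnion fun z => (bK.repr z).support
  have hsupp : ∀ z ∈ LinearMap.ker (KaehlerDifferential.mapBaseChange P k K),
      ∀ i, i ∉ B₀' → bK.repr z i = 0 := by
    intro z hz i hi
    rw [← hZs] at hz
    refine Submodule.span_induction (fun g hg => ?_) (by simp) (fun x y _ _ hx hy => ?_)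
      (fun c x _ hx => ?_) hz
    · by_contra h
      exact hi (Finset.mem_biUnion.2 ⟨g, hg, Finsupp.mem_support_iff.2 h⟩)
    · rw [map_add, Finsupp.add_apply, hx, hy, add_zero]
    · rw [map_smul, Finsupp.smul_apply, hx, smul_zero]
  let x₁ : {i : B // i ∉ B₀'} → K := fun i => algebraMap k K (i.1 : k)
  have hind : IsPIndependent p P x₁ := by
    rw [Field.isPIndependent_iff_D]
    refine linearIndependent_iff'.2 fun s g hg i hi => ?_
    let z : K ⊗[k] Ω[k⁄P] := ∑ j ∈ s, g j • bK j.1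
    have hz : z ∈ LinearMap.ker (KaehlerDifferential.mapBaseChange P k K) := by
      rw [LinearMap.mem_ker, map_sum, ← hg]
      refine Finset.sum_congr rfl fun j _ => ?_
      rw [map_smul]
      congr 1
      simp only [bK, Module.Basis.baseChange_apply, hb, KaehlerDifferential.mapBaseChange_tmul,
        one_smul, KaehlerDifferential.map_D]
      rfl
    have h1 := hsupp z hz i.1 i.2
    rw [map_sum, Finset.sum_apply'] at h1
    simp only [map_smul, Module.Basis.repr_self, Finsupp.smul_apply, Finsupp.single_apply,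
      smul_eq_mul, mul_ite, mul_one, mul_zero] at h1
    rw [Finset.sum_eq_single i (fun j _ hj => if_neg fun h => hj (Subtype.ext h))
      (fun h => absurd hi h), if_pos rfl] at h1
    exact h1
  have hx₁ : Function.Injective x₁ := Field.injective_of_isPIndependent hind
  have hL : IsPIndependent p P (Subtype.val : ↥(Set.range x₁) → K) := by
    rw [Field.isPIndependent_set_iff]
    rintro _ ⟨a, rfl⟩
    have h1 := Field.isPIndependent_iff.1 hind a
    rw [← Set.compl_singleton_eq, Set.image_compl_eq_range_sdiff_image hx₁, Set.image_singleton] at h1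
    exact h1
  let S : Set K := Set.range fun y : Λ => residue Λ' (ι y)
  have hLS : Set.range x₁ ⊆ S := by
    rintro _ ⟨i, rfl⟩
    exact ⟨algebraMap k Λ i.1, by show residue Λ' (ι _) = _; rw [AlgHom.commutes]; rfl⟩
  have hS : IsPGenerating p P (Subtype.val : S → K) := by
    rw [Field.isPGenerating_iff_FF, Subtype.range_val]
    refine top_le_iff.1 fun c _ => ?_
    obtain ⟨a, s, hs, hcs⟩ := hgen c
    rw [show c = residue Λ' (ι a) / residue Λ' (ι s) from (eq_div_iff hs).2 hcs]
    exact div_mem (Field.subset_FF S ⟨a, rfl⟩) (Field.subset_FF S ⟨s, rfl⟩)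
  obtain ⟨G, hLG, hGS, hG⟩ := Field.exists_pBasis S (Set.range x₁) hLS hS hL
  -- lifts of the p-basis
  have hlift : ∀ g : G, ∃ t : Λ, residue Λ' (ι t) = g ∧
      ∀ i : {i : B // i ∉ B₀'}, x₁ i = g → t = algebraMap k Λ i.1 := by
    intro g
    by_cases hg : ∃ i, x₁ i = g
    · obtain ⟨i, hi⟩ := hg
      refine ⟨algebraMap k Λ i.1, ?_, fun j hj => by rw [hx₁ (hj.trans hi.symm)]⟩
      rw [AlgHom.commutes, ← hi]
      rfl
    · obtain ⟨t, ht⟩ := hGS g.2
      exact ⟨t, ht, fun i hi => absurd ⟨i, hi⟩ hg⟩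
  choose t ht ht' using hlift
  have hnil : IsNilpotent (maximalIdeal Λ') := ⟨N, hN⟩
  let v : K →ₐ[P] Λ' ⧸ maximalIdeal Λ' := { RingHom.id K with commutes' := fun _ => rfl }
  obtain ⟨σ, ⟨hσ, hσg⟩, -⟩ := Perfect.existsUnique_lift hG Λ' (maximalIdeal Λ') hnil v
    (fun g => ι (t g)) fun g => ht g
  have hres : ∀ c : K, residue Λ' (σ c) = c := fun c => DFunLike.congr_fun hσ c
  let q := p ^ N
  have hpow : ∀ y : Λ, σ (residue Λ' (ι (y ^ q))) = ι (y ^ q) := by
    intro y
    have h1 : σ (residue Λ' (ι y)) - ι y ∈ maximalIdeal Λ' := by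
      rw [← residue_eq_zero_iff, map_sub, hres, sub_self]
    have h2 : (σ (residue Λ' (ι y)) - ι y) ^ q = 0 := by
      have h3 := Ideal.pow_mem_pow h1 q
      have hle : N ≤ q := (Nat.lt_pow_self (Fact.out : p.Prime).one_lt).le
      exact (Submodule.mem_bot Λ').1 (hN ▸ Ideal.pow_le_pow_right hle h3)
    rw [sub_pow_expChar_pow, sub_eq_zero] at h2
    rw [map_pow, map_pow, map_pow, h2]
  refine ⟨{
    σ := σ.toRingHom
    residue_σ := hres
    T := Set.range (fun y : Λ => y ^ q) ∪ Set.range t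
    σ_T := ?_
    closure_T := ?_
    B₀ := B₀'.image Subtype.val
    T₁ := Set.range (fun a : k => a ^ q) ∪ Set.range fun i : {i : B // i ∉ B₀'} => (i.1 : k)
    T₁_sub := ?_
    closure_T₁ := ?_ }⟩
  · rintro _ (⟨y, rfl⟩ | ⟨g, rfl⟩)
    · exact hpow y
    · show σ (residue Λ' (ι (t g))) = ι (t g)
      rw [ht, hσg]
  · have hY : Subfield.closure S = ⊤ := top_le_iff.1 fun c _ => by
      obtain ⟨a, s, hs, hcs⟩ := hgen c
      rw [show c = residue Λ' (ι a) / residue Λ' (ι s) from (eq_div_iff hs).2 hcs]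
      exact div_mem (Subfield.subset_closure ⟨a, rfl⟩) (Subfield.subset_closure ⟨s, rfl⟩)
    have hGtop : Field.FF p P G = ⊤ := by
      have := Field.isPGenerating_iff_FF.1 hG.2
      rwa [Subtype.range_val] at this
    refine top_le_iff.1 ((closure_pow_union_eq_top p S G hY hGtop N).ge.trans
      (Subfield.closure_mono (Set.union_subset ?_ fun g hg => ?_)))
    · rintro _ ⟨_, ⟨y, rfl⟩, rfl⟩
      exact ⟨_, ⟨_, Or.inl ⟨y, rfl⟩, rfl⟩, by rw [map_pow, map_pow]⟩
    · exact ⟨_, ⟨_, Or.inr ⟨⟨g, hg⟩, rfl⟩, rfl⟩, ht ⟨g, hg⟩⟩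
  · rintro _ ⟨a, (⟨a', rfl⟩ | ⟨i, rfl⟩), rfl⟩
    · exact Or.inl ⟨algebraMap k Λ a', (map_pow _ _ _).symm⟩
    · exact Or.inr ⟨⟨x₁ i, hLG ⟨i, rfl⟩⟩, ht' _ i rfl⟩
  · have hBtop : Field.FF p P B = ⊤ := by
      have := Field.isPGenerating_iff_FF.1 hB.2
      rwa [Subtype.range_val] at this
    refine top_le_iff.1 ((closure_pow_union_eq_top p Set.univ B Subfield.closure_univ hBtop N).ge.trans
      (Subfield.closure_mono (Set.union_subset ?_ fun a ha => ?_)))
    · rintro _ ⟨y, -, rfl⟩
      exact Or.inl (Or.inl ⟨y, rfl⟩)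
    · by_cases h : (⟨a, ha⟩ : B) ∈ B₀'
      · exact Or.inr (Finset.mem_image.2 ⟨_, h, rfl⟩)
      · exact Or.inl (Or.inr ⟨⟨⟨a, ha⟩, h⟩, rfl⟩)

/-- The small subring. -/
theorem exists_subring {N : ℕ} (hN : maximalIdeal Λ' ^ N = ⊥) (D : Datum ι N) {d : ℕ}
    (π : Fin d → Λ') (hπ : Ideal.span (Set.range π) = maximalIdeal Λ') (E : Finset Λ')
    (C : Finset (ResidueField Λ')) :
    ∃ (T₀ : Finset Λ) (F : Subfield (ResidueField Λ')) (R₀ : Subalgebra k Λ'),
      (C : Set (ResidueField Λ')) ⊆ F ∧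
      R₀.toSubring = Subring.closure (D.σ '' F ∪ Set.range π) ∧ (E : Set Λ') ⊆ R₀ ∧
      ι '' (T₀ : Set Λ) ⊆ R₀ ∧
      (∀ r ∈ R₀, IsUnit r → ∃ r' ∈ R₀, r * r' = 1) ∧
      (∀ r ∈ R₀, residue Λ' r ∈ F ∧
        ∃ c : Fin d → Λ', (∀ l, c l ∈ R₀) ∧ r = D.σ (residue Λ' r) + ∑ l, π l * c l) ∧
      R₀.toSubring ≤ loc (Algebra.adjoin k (ι '' (T₀ : Set Λ) ∪ Set.range π)) := by
  classical
  let K := ResidueField Λ'
  have hπm : ∀ l, π l ∈ maximalIdeal Λ' := fun l => hπ ▸ Ideal.subset_span ⟨l, rfl⟩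
  have hπ0 : ∀ l, residue Λ' (π l) = 0 := fun l => (residue_eq_zero_iff _).2 (hπm l)
  -- everything is generated by the coefficient field and `π`
  have hall : ∀ x : Λ', x ∈ Subring.closure (Set.range D.σ ∪ Set.range π) := by
    suffices H : ∀ (j : ℕ) (x : Λ'), ∃ r ∈ Subring.closure (Set.range D.σ ∪ Set.range π),
        x - r ∈ maximalIdeal Λ' ^ j by
      intro x
      obtain ⟨r, hr, hxr⟩ := H N x
      rw [hN, Submodule.mem_bot, sub_eq_zero] at hxr
      exact hxr ▸ hr
    intro j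
    induction j with
    | zero => exact fun x => ⟨0, zero_mem _, by simp⟩
    | succ j ih =>
      intro x
      have hx : x - D.σ (residue Λ' x) ∈ Ideal.span (Set.range π) := by
        rw [hπ, ← residue_eq_zero_iff, map_sub, D.residue_σ, sub_self]
      obtain ⟨y, hy⟩ := (Submodule.mem_span_range_iff_exists_fun Λ').1 hx
      choose r hr hyr using fun l => ih (y l)
      refine ⟨D.σ (residue Λ' x) + ∑ l, π l * r l, add_mem (Subring.subset_closure (Or.inl ⟨_, rfl⟩))
        (sum_mem fun l _ => mul_mem (Subring.subset_closure (Or.inr ⟨l, rfl⟩)) (hr l)), ?_⟩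
      rw [← sub_sub, ← hy, ← Finset.sum_sub_distrib]
      refine Ideal.sum_mem _ fun l _ => ?_
      rw [smul_eq_mul, mul_comm, ← mul_sub, pow_succ']
      exact Ideal.mul_mem_mul (hπm l) (hyr l)
  let U : Finset Λ' := E ∪ D.B₀.image (algebraMap k Λ')
  choose CU hCU using fun e : U => exists_finset_subring D.σ _ (hall (e : Λ'))
  let C' : Finset K := C ∪ Finset.univ.biUnion CU
  have hTc : ∀ c : K, ∃ T : Finset Λ, (T : Set Λ) ⊆ D.T ∧
      c ∈ Subfield.closure (residue Λ' '' (ι '' (T : Set Λ))) := by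
    intro c
    obtain ⟨S, hS, hc⟩ := exists_finset_closure _ (D.closure_T.ge (Subfield.mem_top c))
    choose f hf using fun s : S => hS s.2
    choose g hg using fun s : S => (hf s).1
    refine ⟨Finset.univ.image g, ?_, Subfield.closure_mono ?_ hc⟩
    · intro t ht
      obtain ⟨s, -, rfl⟩ := Finset.mem_image.1 ht
      exact (hg s).1
    · intro s hs
      refine ⟨_, ⟨g ⟨s, hs⟩, Finset.mem_image.2 ⟨_, Finset.mem_univ _, rfl⟩, rfl⟩, ?_⟩
      rw [(hg ⟨s, hs⟩).2]
      exact (hf ⟨s, hs⟩).2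
  choose Tc hTcT hTcc using hTc
  let T₀ : Finset Λ := C'.biUnion Tc
  have hT₀ : ∀ t ∈ T₀, t ∈ D.T := fun t ht => by
    obtain ⟨c, -, hc⟩ := Finset.mem_biUnion.1 ht
    exact hTcT c hc
  let F : Subfield K := Subfield.closure
    (algebraMap k K '' D.T₁ ∪ residue Λ' '' (ι '' (T₀ : Set Λ)))
  have hC'F : ∀ c ∈ C', c ∈ F := fun c hc =>
    Subfield.closure_mono (fun z hz => Or.inr (Set.image_mono (Set.image_mono
      fun t ht => Finset.mem_biUnion.2 ⟨c, hc, ht⟩) hz)) (hTcc c)
  let R₁ : Subring Λ' := Subring.closure (D.σ '' F ∪ Set.range π)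
  have hσR : ∀ c ∈ F, D.σ c ∈ R₁ := fun c hc => Subring.subset_closure (Or.inl ⟨c, hc, rfl⟩)
  have hπR : ∀ l, π l ∈ R₁ := fun l => Subring.subset_closure (Or.inr ⟨l, rfl⟩)
  have hdec : ∀ r ∈ R₁, residue Λ' r ∈ F ∧
      ∃ c : Fin d → Λ', (∀ l, c l ∈ R₁) ∧ r = D.σ (residue Λ' r) + ∑ l, π l * c l := by
    intro r hr
    induction hr using Subring.closure_induction with
    | mem x hx =>
      rcases hx with ⟨c, hc, rfl⟩ | ⟨l, rfl⟩
      · rw [D.residue_σ]
        exact ⟨hc, fun _ => 0, fun _ => zero_mem _, by simp⟩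
      · rw [hπ0, map_zero]
        refine ⟨zero_mem _, fun l' => if l' = l then 1 else 0, fun l' => ?_, by simp⟩
        by_cases hll : l' = l <;> simp only [hll, if_true, if_false]
        · exact one_mem _
        · exact zero_mem _
    | zero => exact ⟨by simp [zero_mem], fun _ => 0, fun _ => zero_mem _, by simp⟩
    | one => exact ⟨by simp [one_mem], fun _ => 0, fun _ => zero_mem _, by simp⟩
    | add x y _ _ hx hy =>
      obtain ⟨hxF, c, hc, hx⟩ := hx
      obtain ⟨hyF, c', hc', hy⟩ := hy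
      refine ⟨by rw [map_add]; exact add_mem hxF hyF, c + c', fun l => add_mem (hc l) (hc' l), ?_⟩
      conv_lhs => rw [hx, hy]
      simp only [map_add, Pi.add_apply, mul_add, Finset.sum_add_distrib]
      ring
    | neg x _ hx =>
      obtain ⟨hxF, c, hc, hx⟩ := hx
      refine ⟨by rw [map_neg]; exact neg_mem hxF, -c, fun l => neg_mem (hc l), ?_⟩
      conv_lhs => rw [hx]
      simp only [map_neg, Pi.neg_apply, mul_neg, Finset.sum_neg_distrib]
      ring
    | mul x y hxR _ hx hy =>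
      obtain ⟨hxF, c, hc, hx⟩ := hx
      obtain ⟨hyF, c', hc', hy⟩ := hy
      refine ⟨by rw [map_mul]; exact mul_mem hxF hyF,
        fun l => c' l * x + D.σ (residue Λ' y) * c l,
        fun l => add_mem (mul_mem (hc' l) hxR) (mul_mem (hσR _ hyF) (hc l)), ?_⟩
      have h1 : ∑ l, π l * (c' l * x + D.σ (residue Λ' y) * c l) =
          (∑ l, π l * c' l) * x + D.σ (residue Λ' y) * ∑ l, π l * c l := by
        simp only [mul_add, Finset.sum_add_distrib, Finset.sum_mul, Finset.mul_sum]
        congr 1 <;> exact Finset.sum_congr rfl fun l _ => by ring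
      rw [map_mul, map_mul, h1]
      linear_combination x * hy + D.σ (residue Λ' y) * hx
  have hinv : ∀ r ∈ R₁, IsUnit r → ∃ r' ∈ R₁, r * r' = 1 := by
    intro r hr hu
    obtain ⟨hrF, -⟩ := hdec r hr
    have hc0 : residue Λ' r ≠ 0 := (residue_ne_zero_iff_isUnit r).2 hu
    let w : Λ' := 1 - D.σ (residue Λ' r)⁻¹ * r
    have hw : w ∈ maximalIdeal Λ' := by
      rw [← residue_eq_zero_iff]
      simp [w, map_sub, D.residue_σ, inv_mul_cancel₀ hc0]
    refine ⟨D.σ (residue Λ' r)⁻¹ * ∑ i ∈ Finset.range N, w ^ i,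
      mul_mem (hσR _ (inv_mem hrF)) (sum_mem fun i _ => pow_mem
        (sub_mem (one_mem _) (mul_mem (hσR _ (inv_mem hrF)) hr)) i), ?_⟩
    have h1 : (1 - w) * ∑ i ∈ Finset.range N, w ^ i = 1 - w ^ N := mul_neg_geom_sum w N
    have h2 : w ^ N = 0 := (Submodule.mem_bot Λ').1 (hN ▸ Ideal.pow_mem_pow hw N)
    rw [h2, sub_zero] at h1
    have h3 : 1 - w = D.σ (residue Λ' r)⁻¹ * r := by simp [w]
    rw [h3] at h1
    linear_combination h1
  have hT₁ : ∀ a ∈ D.T₁, algebraMap k Λ' a = D.σ (algebraMap k K a) := fun a ha => by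
    have h := D.σ_T _ (D.T₁_sub ⟨a, ha, rfl⟩)
    rw [AlgHom.commutes] at h
    exact h.symm
  have hUR : ∀ e ∈ U, e ∈ R₁ := fun e he => by
    refine Subring.closure_mono ?_ (hCU ⟨e, he⟩)
    refine Set.union_subset_union_left _ (Set.image_mono fun c hc => ?_)
    exact hC'F c (Finset.mem_union_right _ (Finset.mem_biUnion.2 ⟨_, Finset.mem_univ _, hc⟩))
  have hk : ∀ a : k, algebraMap k Λ' a ∈ R₁ := by
    let SF : Subfield k :=
      { R₁.comap (algebraMap k Λ') with
        inv_mem' := fun a ha => by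
          show algebraMap k Λ' a⁻¹ ∈ R₁
          rcases eq_or_ne a 0 with rfl | ha0
          · simpa using zero_mem R₁
          obtain ⟨r', hr', hrr⟩ := hinv _ ha ((isUnit_iff_ne_zero.2 ha0).map (algebraMap k Λ'))
          have h1 : algebraMap k Λ' a⁻¹ = r' := by
            calc algebraMap k Λ' a⁻¹ = algebraMap k Λ' a⁻¹ * (algebraMap k Λ' a * r') := by
                  rw [hrr, mul_one]
              _ = r' := by rw [← mul_assoc, ← map_mul, inv_mul_cancel₀ ha0, map_one, one_mul]
          rw [h1]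
          exact hr' }
    intro a
    refine (D.closure_T₁.ge.trans ((Subfield.closure_le (t := SF)).2 ?_)) (Subfield.mem_top a)
    rintro z (hz | hz)
    · show algebraMap k Λ' z ∈ R₁
      rw [hT₁ z hz]
      exact hσR _ (Subfield.subset_closure (Or.inl ⟨z, hz, rfl⟩))
    · exact hUR _ (Finset.mem_union_right _ (Finset.mem_image.2 ⟨z, hz, rfl⟩))
  let R₀ : Subalgebra k Λ' := { R₁ with algebraMap_mem' := hk }
  have hιT : ∀ t ∈ T₀, ι t ∈ R₁ := fun t ht => by
    rw [← D.σ_T t (hT₀ t ht)]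
    exact hσR _ (Subfield.subset_closure (Or.inr ⟨_, ⟨t, ht, rfl⟩, rfl⟩))
  refine ⟨T₀, F, R₀, fun c hc => hC'F c (Finset.mem_union_left _ hc), rfl,
    fun e he => hUR e (Finset.mem_union_left _ he), ?_, hinv, hdec, ?_⟩
  · rintro _ ⟨t, ht, rfl⟩
    exact hιT t ht
  · show R₁ ≤ _
    let S := Algebra.adjoin k (ι '' (T₀ : Set Λ) ∪ Set.range π)
    have hSloc : ∀ x ∈ S, x ∈ loc S := fun x hx => ⟨x, hx, 1, one_mem _, isUnit_one, mul_one x⟩
    let SK : Subfield K :=
      { (loc S).comap D.σ with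
        inv_mem' := fun c hc => by
          show D.σ c⁻¹ ∈ loc S
          rcases eq_or_ne c 0 with rfl | hc0
          · simpa using zero_mem (loc S)
          obtain ⟨a, ha, s, hs, hu, h⟩ := hc
          have hua : IsUnit a := h ▸ ((isUnit_iff_ne_zero.2 hc0).map D.σ).mul hu
          refine ⟨s, hs, a, ha, hua, ?_⟩
          rw [← h, ← mul_assoc, ← map_mul, inv_mul_cancel₀ hc0, map_one, one_mul] }
    have hF : F ≤ SK := by
      rw [Subfield.closure_le]
      rintro z (⟨a, ha, rfl⟩ | ⟨_, ⟨t, ht, rfl⟩, rfl⟩)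
      · show D.σ _ ∈ loc S
        rw [← hT₁ a ha]
        exact hSloc _ (S.algebraMap_mem a)
      · show D.σ _ ∈ loc S
        rw [D.σ_T t (hT₀ t ht)]
        exact hSloc _ (Algebra.subset_adjoin (Or.inl ⟨t, ht, rfl⟩))
    rw [Subring.closure_le]
    rintro z (⟨c, hc, rfl⟩ | ⟨l, rfl⟩)
    · exact hF hc
    · exact hSloc _ (Algebra.subset_adjoin (Or.inr ⟨l, rfl⟩))

end Groth.Agent.Lib.Smoothing.Char.Coefficient
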