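import Groth.Agent.Lib.PBasis.Conormal
import Groth.Agent.Lib.SymGr.LocalStep
import Groth.Agent.Lib.Regular.Indep
import Groth.Agent.Lib.Smoothing.Minors
import Mathlib.RingTheory.RegularLocalRing.Polynomial
import Mathlib.Algebra.MvPolynomial.PDeriv
import Mathlib.RingTheory.Kaehler.Basic

/-!
# Relations with independent differentials

Let `θ` map a polynomial ring over `k` into a local `k`-algebra `L` for which `κ ⊗ Ω_k → κ ⊗ Ω_L` is
injective.  A polynomial in the prime `P` lying under the maximal ideal, which maps into the square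
of the maximal ideal and has all partial derivatives in `P`, is in `P²` locally.  Consequently, the
kernel of `P/P² → 𝔪/𝔪²` is spanned by polynomials with independent differentials relative to `k`.
-/

universe u

open IsLocalRing MvPolynomial
open scoped TensorProduct

namespace Groth.Agent.Lib.Smoothing.Char.Conormal

variable {k : Type u} [Field k] {τ : Type} [Fintype τ] [DecidableEq τ]

/-- The absolute differential of a polynomial. -/
theorem exists_D_eq (g : MvPolynomial τ k) :
    ∃ (n : ℕ) (c : Fin n → MvPolynomial τ k) (a : Fin n → k),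
      KaehlerDifferential.D ℤ (MvPolynomial τ k) g =
        (∑ v, pderiv v g • KaehlerDifferential.D ℤ (MvPolynomial τ k) (X v)) +
          ∑ i, c i • KaehlerDifferential.D ℤ (MvPolynomial τ k) (C (a i)) := by
  induction g using MvPolynomial.induction_on with
  | C a => exact ⟨1, fun _ => 1, fun _ => a, by simp⟩
  | add f g hf hg =>
    obtain ⟨n, c, a, hf⟩ := hf
    obtain ⟨n', c', a', hg⟩ := hg
    refine ⟨n + n', Fin.append c c', Fin.append a a', ?_⟩
    rw [Fin.sum_univ_add, map_add, hf, hg]
    simp only [Fin.append_left, Fin.append_right, map_add, add_smul, Finset.sum_add_distrib]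
    abel
  | mul_X g v hg =>
    obtain ⟨n, c, a, hg⟩ := hg
    refine ⟨n, fun i => X v * c i, a, ?_⟩
    rw [Derivation.leibniz, hg, smul_add, Finset.smul_sum, Finset.smul_sum]
    have h1 : ∑ w : τ, (pderiv w (g * X v) : MvPolynomial τ k) • KaehlerDifferential.D ℤ (MvPolynomial τ k) (X w) =
        g • KaehlerDifferential.D ℤ (MvPolynomial τ k) (X v) +
          ∑ w : τ, (X v : MvPolynomial τ k) • ((pderiv w g : MvPolynomial τ k) • KaehlerDifferential.D ℤ (MvPolynomial τ k) (X w)) := by
      simp only [pderiv_mul, add_smul, Finset.sum_add_distrib, mul_smul]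
      rw [add_comm]
      congr 1
      · rw [Finset.sum_eq_single v]
        · simp
        · intro w _ hw
          simp [pderiv_X_of_ne hw.symm]
        · simp
      · exact Finset.sum_congr rfl fun w _ => smul_comm _ _ _
    rw [h1]
    simp only [mul_smul]
    abel

variable {L : Type u} [CommRing L] [IsLocalRing L] [Algebra k L]

/-- Injectivity on differentials for a relation between differentials of scalars. -/
theorem eq_zero_of_relation
    (hinj : Function.Injective
      ((KaehlerDifferential.mapBaseChange ℤ k L).lTensor (ResidueField L)))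
    {n : ℕ} (c : Fin n → ResidueField L) (a : Fin n → k)
    (h : ∑ i, c i • ((1 : ResidueField L) ⊗ₜ[L] KaehlerDifferential.D ℤ L (algebraMap k L (a i))) = 0) :
    ∑ i, c i ⊗ₜ[k] KaehlerDifferential.D ℤ k (a i) = 0 := by
  let K := ResidueField L
  let e := TensorProduct.AlgebraTensorModule.cancelBaseChange k L L K (Ω[k⁄ℤ])
  apply e.symm.injective
  apply hinj
  simp only [map_sum, map_zero, e, TensorProduct.AlgebraTensorModule.cancelBaseChange_symm_tmul,
    LinearMap.lTensor_tmul, KaehlerDifferential.mapBaseChange_tmul, one_smul,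
    KaehlerDifferential.map_D]
  rw [← h]
  refine Finset.sum_congr rfl fun i _ => ?_
  rw [TensorProduct.smul_tmul', smul_eq_mul, mul_one]

variable (p : ℕ) [Fact p.Prime] [CharP k p]
variable {R : Type u} [CommRing R] [IsLocalRing R] [Algebra (MvPolynomial τ k) R]
  (P : Ideal (MvPolynomial τ k)) [P.IsPrime] [IsLocalization.AtPrime R P]

theorem isUnit_of_comap (θ : MvPolynomial τ k →ₐ[k] L) (hP : P = (maximalIdeal L).comap θ)
    (s : P.primeCompl) : IsUnit (θ s) := by
  by_contra h
  exact s.2 (hP.ge ((mem_maximalIdeal _).2 h))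

include p in
theorem mem_sq_of_pderiv_mem (θ : MvPolynomial τ k →ₐ[k] L) (hP : P = (maximalIdeal L).comap θ)
    (hinj : Function.Injective
      ((KaehlerDifferential.mapBaseChange ℤ k L).lTensor (ResidueField L)))
    (g : MvPolynomial τ k) (hg2 : θ g ∈ maximalIdeal L ^ 2) (hpd : ∀ v, pderiv v g ∈ P) :
    algebraMap (MvPolynomial τ k) R g ∈ maximalIdeal R ^ 2 := by
  let _ : Algebra k R := ((algebraMap (MvPolynomial τ k) R).comp C).toAlgebra
  have : IsScalarTower k (MvPolynomial τ k) R := IsScalarTower.of_algebraMap_eq' rfl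
  let ψ : R →+* L := IsLocalization.lift (isUnit_of_comap P θ hP)
  have hψ : ∀ z, ψ (algebraMap _ R z) = θ z := IsLocalization.lift_eq _
  have hmem : ∀ z, z ∈ P → residue R (algebraMap _ R z) = 0 := fun z hz =>
    (residue_eq_zero_iff _).2 ((IsLocalization.AtPrime.to_map_mem_maximal_iff R P z).2 hz)
  have : IsLocalHom ψ := by
    refine ((IsLocalRing.local_hom_TFAE ψ).out 0 2).2 ?_
    rw [← IsLocalization.AtPrime.map_eq_maximalIdeal P R, Ideal.map_map, Ideal.map_le_iff_le_comap]
    intro z hz
    show ψ (algebraMap _ R z) ∈ maximalIdeal L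
    rw [hψ]
    exact hP.le hz
  let f : ResidueField R →+* ResidueField L := ResidueField.map ψ
  have hf : ∀ z, f (residue R (algebraMap _ R z)) = residue L (θ z) := fun z => by
    show ResidueField.map ψ (residue R _) = _
    rw [ResidueField.map_residue, hψ]
  have hgP : g ∈ P := hP.ge (Ideal.pow_le_self two_ne_zero hg2 : θ g ∈ maximalIdeal L)
  have hgm : algebraMap _ R g ∈ maximalIdeal R :=
    (IsLocalization.AtPrime.to_map_mem_maximal_iff R P g).2 hgP
  obtain ⟨n, c, a, hD⟩ := exists_D_eq g
  -- the image in `L`
  have hL : KaehlerDifferential.D ℤ L (θ g) =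
      (∑ v, θ (pderiv v g) • KaehlerDifferential.D ℤ L (θ (X v))) +
        ∑ i, θ (c i) • KaehlerDifferential.D ℤ L (algebraMap k L (a i)) := by
    let _ : Algebra (MvPolynomial τ k) L := θ.toRingHom.toAlgebra
    have h := congr_arg (KaehlerDifferential.map ℤ ℤ (MvPolynomial τ k) L) hD
    simp only [map_add, map_sum, map_smul, KaehlerDifferential.map_D] at h
    refine h.trans (congrArg₂ (· + ·) (Finset.sum_congr rfl fun i _ => ?_)
      (Finset.sum_congr rfl fun i _ => ?_))
    · rw [← algebraMap_smul L (M := Ω[L⁄ℤ])]
      rfl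
    · rw [← algebraMap_smul L (M := Ω[L⁄ℤ]), show algebraMap (MvPolynomial τ k) L (C (a i)) =
        algebraMap k L (a i) from θ.commutes (a i)]
      rfl
  have hrelL : ∑ i, residue L (θ (c i)) • ((1 : ResidueField L) ⊗ₜ[L]
      KaehlerDifferential.D ℤ L (algebraMap k L (a i))) = 0 := by
    have h1 : (1 : ResidueField L) ⊗ₜ[L] KaehlerDifferential.D ℤ L (θ g) = 0 := by
      rw [pow_two] at hg2
      refine Submodule.mul_induction_on hg2 (fun x hx y hy => ?_) (fun x y hx hy => ?_)
      · rw [Derivation.leibniz, TensorProduct.tmul_add, TensorProduct.tmul_smul, TensorProduct.tmul_smul,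
          TensorProduct.smul_tmul', TensorProduct.smul_tmul', Algebra.smul_def, Algebra.smul_def,
          mul_one, mul_one, (residue_eq_zero_iff x).2 hx |> fun h => show algebraMap L (ResidueField L) x = 0 from h,
          show algebraMap L (ResidueField L) y = 0 from (residue_eq_zero_iff y).2 hy,
          TensorProduct.zero_tmul, TensorProduct.zero_tmul, add_zero]
      · rw [map_add, TensorProduct.tmul_add, hx, hy, add_zero]
    rw [hL, TensorProduct.tmul_add, TensorProduct.tmul_sum, TensorProduct.tmul_sum] at h1
    rw [Finset.sum_eq_zero (fun v _ => by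
      rw [TensorProduct.tmul_smul, TensorProduct.smul_tmul', Algebra.smul_def, mul_one,
        show algebraMap L (ResidueField L) (θ (pderiv v g)) = 0 from
          (residue_eq_zero_iff _).2 (hP.le (hpd v)), TensorProduct.zero_tmul]), zero_add] at h1
    rw [← h1]
    refine Finset.sum_congr rfl fun i _ => ?_
    rw [TensorProduct.tmul_smul, ← algebraMap_smul (ResidueField L) (θ (c i))]
    rfl
  have hξ : ∑ i, f (residue R (algebraMap _ R (c i))) ⊗ₜ[k] KaehlerDifferential.D ℤ k (a i) = 0 := by
    simp only [hf]
    exact eq_zero_of_relation hinj _ _ hrelL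
  let fk : ResidueField R →ₗ[k] ResidueField L :=
    { f.toAddMonoidHom with
      map_smul' := fun r z => by
        show f (r • z) = r • f z
        rw [Algebra.smul_def, Algebra.smul_def, map_mul]
        congr 1
        show f (residue R (algebraMap k R r)) = residue L (algebraMap k L r)
        rw [IsScalarTower.algebraMap_apply k (MvPolynomial τ k) R, hf]
        exact congr_arg _ (θ.commutes r) }
  have hξ' : ∑ i, residue R (algebraMap _ R (c i)) ⊗ₜ[k] KaehlerDifferential.D ℤ k (a i) = 0 := by
    apply Module.Flat.rTensor_preserves_injective_linearMap (M := Ω[k⁄ℤ]) fk f.injective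
    rw [map_sum, map_zero]
    exact hξ
  -- push to `R`
  let e := TensorProduct.AlgebraTensorModule.cancelBaseChange k R R (ResidueField R) (Ω[k⁄ℤ])
  have h2 : ∑ i, residue R (algebraMap _ R (c i)) • ((1 : ResidueField R) ⊗ₜ[R]
      KaehlerDifferential.D ℤ R (algebraMap k R (a i))) = 0 := by
    have h := congr_arg ((KaehlerDifferential.mapBaseChange ℤ k R).lTensor (ResidueField R)) (congr_arg e.symm hξ')
    simp only [map_sum, map_zero, e, TensorProduct.AlgebraTensorModule.cancelBaseChange_symm_tmul,
      LinearMap.lTensor_tmul, KaehlerDifferential.mapBaseChange_tmul, one_smul,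
      KaehlerDifferential.map_D] at h
    rw [← h]
    refine Finset.sum_congr rfl fun i _ => ?_
    rw [TensorProduct.smul_tmul', smul_eq_mul, mul_one]
  have hCp : CharP (ResidueField R) p :=
    charP_of_injective_ringHom (f := algebraMap k (ResidueField R)) (RingHom.injective _) p
  have hp0 : (p : R) ∈ maximalIdeal R ^ 2 := by
    rw [← map_natCast (algebraMap k R), CharP.cast_eq_zero, map_zero]
    exact zero_mem _
  refine Groth.Agent.Lib.PBasis.Conormal.mem_sq_of_nu_eq_zero R p hp0 ⟨_, hgm⟩ ?_
  rw [Groth.Agent.Lib.PBasis.Conormal.nu_apply]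
  have h := congr_arg (KaehlerDifferential.map ℤ ℤ (MvPolynomial τ k) R) hD
  simp only [map_add, map_sum, map_smul, KaehlerDifferential.map_D] at h
  show (1 : ResidueField R) ⊗ₜ[R] KaehlerDifferential.D ℤ R (algebraMap _ R g) = 0
  rw [h, TensorProduct.tmul_add, TensorProduct.tmul_sum, TensorProduct.tmul_sum]
  rw [Finset.sum_eq_zero (fun v _ => by
    rw [← algebraMap_smul R (pderiv v g), TensorProduct.tmul_smul, TensorProduct.smul_tmul',
      Algebra.smul_def, mul_one]
    rw [show algebraMap R (ResidueField R) (algebraMap _ R (pderiv v g)) = 0 from hmem _ (hpd v),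
      TensorProduct.zero_tmul]), zero_add, ← h2]
  refine Finset.sum_congr rfl fun i _ => ?_
  rw [← algebraMap_smul R (c i), TensorProduct.tmul_smul,
    ← algebraMap_smul (ResidueField R) (algebraMap _ R (c i))]
  rfl

include p in
theorem exists_relations [IsNoetherianRing L] {d : ℕ} (θ : MvPolynomial τ k →ₐ[k] L)
    (hP : P = (maximalIdeal L).comap θ)
    (hinj : Function.Injective
      ((KaehlerDifferential.mapBaseChange ℤ k L).lTensor (ResidueField L)))
    (x : Fin d → MvPolynomial τ k) (hd : (maximalIdeal L).spanFinrank = d)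
    (hx : Ideal.span (Set.range fun l => θ (x l)) = maximalIdeal L)
    (G : Set (MvPolynomial τ k)) (hG : ∀ g ∈ G, θ g ∈ maximalIdeal L ^ 2)
    (hgen : P.map (algebraMap (MvPolynomial τ k) R) ≤
      (Ideal.span (Set.range x ∪ G)).map (algebraMap (MvPolynomial τ k) R)) :
    ∃ (m : ℕ) (g : Fin m → MvPolynomial τ k), (∀ j, g j ∈ G) ∧
      (∃ cols : Fin m → τ, (Matrix.of fun i j => pderiv (cols j) (g i)).det ∉ P) ∧
      maximalIdeal R =
        (Ideal.span (Set.range x ∪ Set.range g)).map (algebraMap (MvPolynomial τ k) R) ∧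
      IsRegularLocalRing (R ⧸ Ideal.span (Set.range fun j => algebraMap (MvPolynomial τ k) R (g j))) ∧
      ringKrullDim (R ⧸ Ideal.span (Set.range fun j => algebraMap (MvPolynomial τ k) R (g j))) = d ∧
      ((d + m : ℕ) : ℕ∞) ≤ P.height := by
  classical
  have : IsNoetherianRing R := IsLocalization.isNoetherianRing P.primeCompl R inferInstance
  have : IsRegularLocalRing R := IsRegularLocalRing.of_ringEquiv
    (IsLocalization.algEquiv P.primeCompl (Localization.AtPrime P) R).toRingEquiv
  let alg := algebraMap (MvPolynomial τ k) R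
  let K := ResidueField R
  let w : G → τ → K := fun g v => residue R (alg (pderiv v (g : MvPolynomial τ k)))
  let W : Submodule K (τ → K) := Submodule.span K (Set.range w)
  obtain ⟨B, hBsub, hBspan, hBli⟩ := exists_linearIndependent K (Set.range w)
  have : Finite B := hBli.setFinite
  obtain ⟨m, ⟨e⟩⟩ := Finite.exists_equiv_fin B
  choose gi hgi using fun b : B => hBsub b.2
  let g : Fin m → MvPolynomial τ k := fun j => gi (e.symm j)
  have hgG : ∀ j, g j ∈ G := fun j => (gi (e.symm j)).2
  let rows : Fin m → τ → K := fun j v => residue R (alg (pderiv v (g j)))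
  have hrows : rows = fun j => ((e.symm j : B) : τ → K) := funext fun j => hgi (e.symm j)
  have hrows_li : LinearIndependent K rows := hrows ▸ hBli.comp _ e.symm.injective
  have hrows_span : Submodule.span K (Set.range rows) = W := by
    rw [hrows]
    show _ = Submodule.span K (Set.range w)
    rw [← hBspan]
    congr 1
    rw [← Function.comp_def, EquivLike.range_comp (Subtype.val : B → τ → K), Subtype.range_val]
  have hPm : ∀ z ∈ P, alg z ∈ maximalIdeal R := fun z hz =>
    (IsLocalization.AtPrime.to_map_mem_maximal_iff R P z).2 hz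
  have hxm : ∀ l, x l ∈ P := fun l => hP.ge (hx ▸ Ideal.subset_span ⟨l, rfl⟩ : θ (x l) ∈ maximalIdeal L)
  have hGP : ∀ z ∈ G, z ∈ P := fun z hz => hP.ge (Ideal.pow_le_self two_ne_zero (hG z hz) : θ z ∈ maximalIdeal L)
  -- the chosen relations generate
  let N := (Ideal.span (Set.range x ∪ Set.range g)).map alg
  have hN : N ≤ maximalIdeal R := Ideal.map_le_iff_le_comap.2 (Ideal.span_le.2 (by
    rintro _ (⟨l, rfl⟩ | ⟨j, rfl⟩)
    · exact hPm _ (hxm l)
    · exact hPm _ (hGP _ (hgG j))))
  have hG2 : ∀ z ∈ G, alg z ∈ N ⊔ maximalIdeal R ^ 2 := by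
    intro z hz
    have hwz : w ⟨z, hz⟩ ∈ Submodule.span K (Set.range rows) :=
      hrows_span ▸ Submodule.subset_span ⟨_, rfl⟩
    obtain ⟨c, hc⟩ := (Submodule.mem_span_range_iff_exists_fun K).1 hwz
    -- representatives of the coefficients
    have hrep : ∀ c : K, ∃ a s : MvPolynomial τ k, s ∉ P ∧
        c * residue R (alg s) = residue R (alg a) := fun c => by
      obtain ⟨r, rfl⟩ := IsLocalRing.residue_surjective c
      obtain ⟨⟨a, s⟩, h⟩ := IsLocalization.surj P.primeCompl r
      exact ⟨a, s, s.2, by rw [← map_mul, h]⟩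
    choose a s hs has using fun j => hrep (c j)
    let S := ∏ j, s j
    let b : Fin m → MvPolynomial τ k := fun j => a j * ∏ i ∈ Finset.univ.erase j, s i
    have hS : S ∉ P := prod_mem (S := P.primeCompl) fun j _ => hs j
    have hb : ∀ j, residue R (alg (b j)) = c j * residue R (alg S) := fun j => by
      simp only [b, S]
      rw [← Finset.mul_prod_erase Finset.univ s (Finset.mem_univ j), map_mul, map_mul, map_mul,
        map_mul, ← has j]
      ring
    have h1 : alg (S * z - ∑ j, b j * g j) ∈ maximalIdeal R ^ 2 := by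
      refine mem_sq_of_pderiv_mem p (R := R) P θ hP hinj _ ?_ fun v => ?_
      · rw [map_sub, map_mul, map_sum]
        refine sub_mem (Ideal.mul_mem_left _ _ (hG z hz)) (Ideal.sum_mem _ fun j _ => ?_)
        rw [map_mul]
        exact Ideal.mul_mem_left _ _ (hG _ (hgG j))
      · rw [← IsLocalization.AtPrime.to_map_mem_maximal_iff R P, ← residue_eq_zero_iff]
        show residue R (alg _) = 0
        simp only [map_sub, map_sum, pderiv_mul, map_add, map_mul]
        rw [(residue_eq_zero_iff _).2 (hPm z (hGP z hz)), mul_zero, zero_add,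
          Finset.sum_congr rfl fun j _ => show residue R (alg (pderiv v (b j))) * residue R (alg (g j)) +
              residue R (alg (b j)) * residue R (alg (pderiv v (g j))) =
              residue R (alg S) * (c j * rows j v) by
            rw [(residue_eq_zero_iff _).2 (hPm _ (hGP _ (hgG j))), hb]; ring,
          ← Finset.mul_sum, ← mul_sub]
        have hcv : ∑ j, c j * rows j v = residue R (alg (pderiv v z)) := by
          have := congr_fun hc v
          simpa [Finset.sum_apply, w] using this
        rw [hcv, sub_self, mul_zero]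
    have hSu : IsUnit (alg S) := IsLocalization.map_units R (⟨S, hS⟩ : P.primeCompl)
    rw [← Ideal.unit_mul_mem_iff_mem _ hSu, ← map_mul,
      show S * z = (S * z - ∑ j, b j * g j) + ∑ j, b j * g j by ring, map_add]
    refine add_mem (Ideal.mem_sup_right h1) (Ideal.mem_sup_left (Ideal.mem_map_of_mem _ ?_))
    exact sum_mem fun j _ => Ideal.mul_mem_left _ _ (Ideal.subset_span (Or.inr ⟨j, rfl⟩))
  have hmax : maximalIdeal R = N := by
    refine le_antisymm ?_ hN
    refine Submodule.le_of_le_smul_of_le_jacobson_bot (I := maximalIdeal R)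
      (Ideal.fg_of_isNoetherianRing _) (IsLocalRing.maximalIdeal_le_jacobson _) ?_
    rw [smul_eq_mul, ← pow_two, ← IsLocalization.AtPrime.map_eq_maximalIdeal P R]
    refine hgen.trans (Ideal.map_le_iff_le_comap.2 (Ideal.span_le.2 ?_))
    rw [IsLocalization.AtPrime.map_eq_maximalIdeal P R]
    rintro z (⟨l, rfl⟩ | hz)
    · exact Ideal.mem_sup_left (Ideal.mem_map_of_mem _ (Ideal.subset_span (Or.inl ⟨l, rfl⟩)))
    · exact hG2 z hz
  -- independence
  let f : Fin (m + d) → maximalIdeal R :=
    Fin.append (fun j => ⟨alg (g j), hPm _ (hGP _ (hgG j))⟩) fun l => ⟨alg (x l), hPm _ (hxm l)⟩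
  let ψ : R →+* L := IsLocalization.lift (isUnit_of_comap P θ hP)
  have hψ : ∀ z, ψ (alg z) = θ z := IsLocalization.lift_eq _
  have hψm : maximalIdeal R ≤ (maximalIdeal L).comap ψ := by
    rw [← IsLocalization.AtPrime.map_eq_maximalIdeal P R, Ideal.map_le_iff_le_comap]
    intro z hz
    show ψ (alg z) ∈ maximalIdeal L
    rw [hψ]
    exact hP.le hz
  let δ : τ → Derivation k (MvPolynomial τ k) (MvPolynomial τ k) := fun v => pderiv v
  have hfli : LinearIndependent K fun i => (maximalIdeal R).toCotangent (f i) := by
    rw [Fintype.linearIndependent_iff]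
    intro c hc
    choose r hr using fun i => IsLocalRing.residue_surjective (c i)
    have h0 : ∑ i, r i * (f i : R) ∈ maximalIdeal R ^ 2 := by
      have : ∑ i, r i • (maximalIdeal R).toCotangent (f i) = 0 := by
        rw [← hc]
        exact Finset.sum_congr rfl fun i _ => by
          rw [← hr i]; exact (algebraMap_smul K (r i) _).symm
      simp only [← map_smul, ← map_sum, Ideal.toCotangent_eq_zero] at this
      simpa using this
    rw [Fin.sum_univ_add] at h0
    simp only [f, Fin.append_left, Fin.append_right] at h0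
    -- coefficients of `x`
    have hxr : ∀ l, r (Fin.natAdd m l) ∈ maximalIdeal R := by
      intro l
      have h1 : ψ (∑ j, r (Fin.castAdd d j) * alg (g j) + ∑ l, r (Fin.natAdd m l) * alg (x l)) ∈
          maximalIdeal L ^ 2 :=
        Ideal.pow_right_mono (Ideal.map_le_iff_le_comap.2 hψm) 2 (Ideal.map_pow ψ _ 2 ▸ Ideal.mem_map_of_mem ψ h0)
      simp only [map_add, map_sum, map_mul, hψ] at h1
      rw [add_mem_cancel_left (Ideal.sum_mem _ fun j _ => Ideal.mul_mem_left _ _ (hG _ (hgG j)))] at h1
      have h2 := Groth.Agent.Lib.SymGr.LocalStep.coeff_mem_maximalIdeal hd (fun l => θ (x l))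
        (fun l => hx ▸ Ideal.subset_span ⟨l, rfl⟩) (hx.ge.trans le_sup_left) _ h1 l
      by_contra hu
      exact (mem_maximalIdeal _).1 h2 (((not_not.1 fun h => hu ((mem_maximalIdeal _).2 h)) :
        IsUnit (r (Fin.natAdd m l))).map ψ)
    -- coefficients of `g`
    have hg0 : ∑ j, r (Fin.castAdd d j) * alg (g j) ∈ maximalIdeal R ^ 2 := by
      have h3 : ∑ l, r (Fin.natAdd m l) * alg (x l) ∈ maximalIdeal R ^ 2 :=
        Ideal.sum_mem _ fun l _ => by rw [pow_two]; exact Ideal.mul_mem_mul (hxr l) (hPm _ (hxm l))
      exact (add_mem_cancel_right h3).1 h0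
    have hgr : ∀ j, residue R (r (Fin.castAdd d j)) = 0 := by
      -- clear denominators
      obtain ⟨S, hS⟩ := IsLocalization.exist_integer_multiples_of_finite P.primeCompl
        fun j => r (Fin.castAdd d j)
      choose a ha using hS
      have h4 : alg (∑ j, a j * g j) ∈ maximalIdeal R ^ 2 := by
        rw [map_sum]
        have : ∑ j, alg (a j * g j) = alg S * ∑ j, r (Fin.castAdd d j) * alg (g j) := by
          rw [Finset.mul_sum]
          refine Finset.sum_congr rfl fun j _ => ?_
          rw [map_mul, show alg (a j) = (S : MvPolynomial τ k) • r (Fin.castAdd d j) from ha j,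
            Algebra.smul_def, mul_assoc]
        rw [this]
        exact Ideal.mul_mem_left _ _ hg0
      have h5 : ∀ v, residue R (alg (pderiv v (∑ j, a j * g j))) = 0 := by
        intro v
        rw [← IsLocalization.AtPrime.map_eq_maximalIdeal P R, ← Ideal.map_pow,
          IsLocalization.algebraMap_mem_map_algebraMap_iff P.primeCompl] at h4
        obtain ⟨t, ht, h4⟩ := h4
        have hD2 : ∀ y ∈ P ^ 2, pderiv v y ∈ P := by
          intro y hy
          rw [pow_two] at hy
          refine Submodule.mul_induction_on hy (fun y hy z hz => ?_) fun y z hy hz => ?_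
          · rw [pderiv_mul]
            exact add_mem (P.mul_mem_left _ hz) (P.mul_mem_right _ hy)
          · rw [map_add]; exact add_mem hy hz
        have h6 := hD2 _ h4
        rw [pderiv_mul] at h6
        have hsum : (∑ j, a j * g j) ∈ P := sum_mem fun j _ => P.mul_mem_left _ (hGP _ (hgG j))
        have h7 := (Ideal.IsPrime.mem_or_mem inferInstance
          ((P.add_mem_iff_right (P.mul_mem_left _ hsum)).1 h6)).resolve_left ht
        exact (residue_eq_zero_iff _).2 (hPm _ h7)
      have h8 : ∀ v, ∑ j, residue R (alg (a j)) * rows j v = 0 := by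
        intro v
        rw [← h5 v]
        simp only [map_sum, pderiv_mul, map_add, map_mul]
        refine Finset.sum_congr rfl fun j _ => ?_
        rw [(residue_eq_zero_iff _).2 (hPm _ (hGP _ (hgG j)))]
        ring
      have h9 := Fintype.linearIndependent_iff.1 hrows_li (fun j => residue R (alg (a j)))
        (funext fun v => by simpa [Finset.sum_apply] using h8 v)
      intro j
      have h10 := h9 j
      rw [show alg (a j) = (S : MvPolynomial τ k) • r (Fin.castAdd d j) from ha j, Algebra.smul_def,
        map_mul, mul_eq_zero] at h10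
      exact h10.resolve_left fun h => S.2
        ((IsLocalization.AtPrime.to_map_mem_maximal_iff R P _).1 ((residue_eq_zero_iff _).1 h))
    intro i
    rw [← hr i]
    refine Fin.addCases (fun j => hgr j) (fun l => (residue_eq_zero_iff _).2 (hxr l)) i
  have hgli : LinearIndependent K fun j => (maximalIdeal R).toCotangent
      (⟨alg (g j), hPm _ (hGP _ (hgG j))⟩ : maximalIdeal R) := by
    have := hfli.comp (Fin.castAdd d) (Fin.castAdd_injective m d)
    simpa [f, Function.comp_def] using this
  obtain ⟨t, -, hcard⟩ := Groth.Agent.Lib.Regular.Indep.exists_gens_extend f hfli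
  have hspan : (maximalIdeal R).spanFinrank = d + m := by
    refine le_antisymm ?_ (by omega)
    rw [hmax]
    refine ((congrArg Submodule.spanFinrank ((Ideal.map_span alg _).trans rfl)).le.trans
      ((Submodule.spanFinrank_span_le_ncard_of_finite
        (((Set.finite_range x).union (Set.finite_range g)).image alg)).trans ?_))
    refine ((Set.ncard_image_le ((Set.finite_range x).union (Set.finite_range g))).trans
      ((Set.ncard_union_le _ _).trans (add_le_add ?_ ?_))) <;>
      · rw [← Set.image_univ]
        exact (Set.ncard_image_le Set.finite_univ).trans (by rw [Set.ncard_univ]; simp)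
  obtain ⟨hQreg, hQdim⟩ := Groth.Agent.Lib.Regular.Indep.quotient_of_indep _ hgli
  have hdimR : ringKrullDim R = ((d + m : ℕ) : WithBot ℕ∞) := by
    rw [← IsRegularLocalRing.spanFinrank_maximalIdeal, hspan]
  refine ⟨m, g, hgG, ?_, hmax, hQreg, ?_, ?_⟩
  · let f' := Fintype.linearCombination K rows
    have hf' : LinearMap.ker f' = ⊥ := LinearMap.ker_eq_bot'.2 fun c hc =>
      funext (Fintype.linearIndependent_iff.1 hrows_li c (by rw [← hc]; simp [f', Fintype.linearCombination_apply]))
    obtain ⟨gl, hgl⟩ := f'.exists_leftInverse_of_injective hf'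
    have hJL : (Matrix.of rows) *
        (Matrix.of fun v j => gl (Pi.single v 1) j : Matrix τ (Fin m) K) = 1 := by
      ext i j
      rw [Matrix.mul_apply]
      have h1 : gl (rows i) = Pi.single i 1 := by
        have := DFunLike.congr_fun hgl (Pi.single i 1)
        simpa [f', Fintype.linearCombination_apply_single] using this
      conv_rhs => rw [Matrix.one_apply]
      have h2 : gl (rows i) = ∑ v, rows i v • gl (Pi.single v 1) := by
        conv_lhs => rw [pi_eq_sum_univ (rows i), map_sum]
        refine Finset.sum_congr rfl fun v _ => ?_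
        rw [map_smul]
        congr 2
        funext v'
        simp [Pi.single_apply, eq_comm]
      have h3 := congr_fun (h2.symm.trans h1) j
      simp only [Finset.sum_apply, Pi.smul_apply, smul_eq_mul, Pi.single_apply] at h3
      simpa [Matrix.of_apply, eq_comm] using h3
    have htop := Groth.Agent.Lib.Smoothing.Minors.span_minors_eq_top _ _ hJL
    by_contra hno
    simp only [not_exists, not_not] at hno
    refine one_ne_zero ((Submodule.mem_bot K).1 (le_of_eq_of_le htop.symm (Ideal.span_le.2 ?_)
      (Submodule.mem_top (x := (1 : K)))))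
    rintro _ ⟨cols, rfl⟩
    show ((Matrix.of rows).submatrix id cols).det ∈ (⊥ : Ideal K)
    have h4 : ((residue R).comp alg) (Matrix.of fun i j => pderiv (cols j) (g i)).det = 0 :=
      (residue_eq_zero_iff _).2 (hPm _ (hno cols))
    rw [RingHom.map_det] at h4
    rw [Submodule.mem_bot, ← h4]
    rfl
  · rw [hdimR] at hQdim
    push_cast at hQdim
    exact ENat.WithBot.add_natCast_cancel.1 hQdim
  · have h := (IsLocalization.AtPrime.ringKrullDim_eq_height P R).symm.trans hdimR
    exact_mod_cast h.ge

end Groth.Agent.Lib.Smoothing.Char.Conormal
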