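import Groth.Agent.H20.RegularFlat
import Groth.Agent.Lib.JacCrit.FlatRegular
import Groth.Agent.Lib.FSAdic.FreeNil
import Mathlib.RingTheory.RegularLocalRing.Polynomial
import Mathlib.RingTheory.KrullDimension.Polynomial

/-!
# Regular local rings over the ring of parameters
-/

universe u

open IsLocalRing MvPolynomial TensorProduct

namespace Groth.Agent.Lib.Smoothing.Char.FlatParams

theorem sub_C_mem_span_X {k : Type u} [CommRing k] {d : ℕ} (z : MvPolynomial (Fin d) k) :
    z - C (constantCoeff z) ∈ Ideal.span (Set.range (X : Fin d → MvPolynomial (Fin d) k)) := by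
  induction z using MvPolynomial.induction_on with
  | C c => simp
  | add u v hu hv =>
    rw [map_add, map_add, show u + v - (C (constantCoeff u) + C (constantCoeff v)) =
      (u - C (constantCoeff u)) + (v - C (constantCoeff v)) by ring]
    exact Ideal.add_mem _ hu hv
  | mul_X u i hu =>
    rw [map_mul, constantCoeff_X, mul_zero, map_zero, sub_zero]
    exact Ideal.mul_mem_left _ _ (Ideal.subset_span ⟨i, rfl⟩)

theorem comap_maximalIdeal {k : Type u} [Field k] {d : ℕ} {L : Type u} [CommRing L] [IsLocalRing L]
    [Algebra (MvPolynomial (Fin d) k) L]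
    (hπ : ∀ i, algebraMap (MvPolynomial (Fin d) k) L (X i) ∈ maximalIdeal L) :
    (maximalIdeal L).comap (algebraMap (MvPolynomial (Fin d) k) L) =
      Ideal.span (Set.range (X : Fin d → MvPolynomial (Fin d) k)) := by
  have hle : Ideal.span (Set.range (X : Fin d → MvPolynomial (Fin d) k)) ≤
      (maximalIdeal L).comap (algebraMap (MvPolynomial (Fin d) k) L) :=
    Ideal.span_le.2 (by rintro _ ⟨i, rfl⟩; exact hπ i)
  refine le_antisymm (fun z hz => ?_) hle
  have hc : constantCoeff z = 0 := by
    by_contra hc
    refine (Ideal.comap_isPrime (algebraMap (MvPolynomial (Fin d) k) L) (maximalIdeal L)).ne_top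
      (Ideal.eq_top_of_isUnit_mem _ ?_ ((isUnit_iff_ne_zero.2 hc).map (C (σ := Fin d))))
    rw [show C (constantCoeff z) = z - (z - C (constantCoeff z)) by ring]
    exact Ideal.sub_mem _ hz (hle (sub_C_mem_span_X z))
  have h1 := sub_C_mem_span_X z
  rwa [hc, map_zero, sub_zero] at h1

/-- A regular local ring is flat over the polynomial ring on a regular system of parameters. -/
theorem flat {k : Type u} [Field k] {d : ℕ} {L : Type u} [CommRing L] [IsRegularLocalRing L]
    [Algebra (MvPolynomial (Fin d) k) L] (hd : ringKrullDim L = d)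
    (hπ : Ideal.span (Set.range fun i => algebraMap (MvPolynomial (Fin d) k) L (X i)) = maximalIdeal L) :
    Module.Flat (MvPolynomial (Fin d) k) L := by
  let P := (maximalIdeal L).comap (algebraMap (MvPolynomial (Fin d) k) L)
  have hPX : P = Ideal.span (Set.range (X : Fin d → MvPolynomial (Fin d) k)) :=
    comap_maximalIdeal fun i => hπ ▸ Ideal.subset_span ⟨i, rfl⟩
  let A₀ := Localization.AtPrime P
  have hu : ∀ s : P.primeCompl, IsUnit (algebraMap (MvPolynomial (Fin d) k) L s) := fun s => by
    by_contra h
    exact s.2 ((mem_maximalIdeal _).2 h)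
  let _ : Algebra A₀ L := (IsLocalization.lift (S := A₀) hu).toAlgebra
  have : IsScalarTower (MvPolynomial (Fin d) k) A₀ L :=
    IsScalarTower.of_algebraMap_eq fun z => (IsLocalization.lift_eq hu z).symm
  have hmax : (maximalIdeal A₀).map (algebraMap A₀ L) = maximalIdeal L := by
    rw [← Localization.AtPrime.map_eq_maximalIdeal, Ideal.map_map, ← IsScalarTower.algebraMap_eq, hPX,
      Ideal.map_span, ← Set.range_comp, ← hπ]
    rfl
  have : IsLocalHom (algebraMap A₀ L) := ((IsLocalRing.local_hom_TFAE _).out 0 2).2 hmax.le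
  have hdimA : ringKrullDim A₀ ≤ d := by
    rw [IsLocalization.AtPrime.ringKrullDim_eq_height P A₀]
    refine Ideal.height_le_ringKrullDim_of_isPrime.trans (le_of_eq ?_)
    rw [MvPolynomial.ringKrullDim_of_isNoetherianRing, ringKrullDim_eq_zero_of_field, zero_add, Nat.card_fin]
  have hcm : LocCoh.IsCohenMacaulayLocalRing L :=
    Groth.Agent.Lib.JacCrit.FlatRegular.isCohenMacaulayLocalRing L
  have : IsRegularLocalRing A₀ := inferInstance
  have : Module.Flat A₀ L := by
    refine Groth.Agent.H20.RegularFlat.flat_of_supportDim_eq A₀ L L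
      Groth.Agent.Lib.Depth.CM.isCohenMacaulayModule_self ?_
    rw [Module.supportDim_self_eq_ringKrullDim, hd, Module.supportDim_eq_of_equiv
      (Submodule.quotEquivOfEq _ ((maximalIdeal A₀).map (algebraMap A₀ L)) (by simp)),
      Module.supportDim_quotient_eq_ringKrullDim]
    refine (add_le_add (c := ringKrullDim A₀) (b := (0 : WithBot ℕ∞)) ?_ le_rfl).trans
      ((zero_add _).le.trans hdimA)
    rw [hmax]
    exact (ringKrullDim_eq_zero_of_isField
      ((Ideal.Quotient.maximal_ideal_iff_isField_quotient _).1 inferInstance)).le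
  exact Module.Flat.trans (MvPolynomial (Fin d) k) A₀ L

/-- A map of flat algebras over a ring with nilpotent maximal ideal is injective when the source has
a field as closed fibre. -/
theorem injective_of_flat {R : Type u} [CommRing R] [IsLocalRing R] (hm : IsNilpotent (maximalIdeal R))
    {A B : Type u} [CommRing A] [CommRing B] [Algebra R A] [Algebra R B] [Module.Flat R A] [Module.Flat R B]
    (ψ : A →ₐ[R] B) (hA : IsField (A ⧸ (maximalIdeal R).map (algebraMap R A)))
    (hB : (maximalIdeal R).map (algebraMap R B) ≠ ⊤) : Function.Injective ψ := by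
  classical
  have : Module.Free R A := Groth.Agent.Lib.FSAdic.FreeNil.free_of_flat hm
  let b := Module.Free.chooseBasis R A
  let κ := ResidueField R
  let ψκ : κ ⊗[R] A →ₐ[κ] κ ⊗[R] B := Algebra.TensorProduct.map (AlgHom.id κ κ) ψ
  have hfield : IsField (κ ⊗[R] A) := by
    refine MulEquiv.isField hA ?_
    exact ((Algebra.TensorProduct.comm R κ A).toRingEquiv.trans
      (Algebra.TensorProduct.quotIdealMapEquivTensorQuot A (maximalIdeal R)).symm.toRingEquiv).toMulEquiv
  have hnt : Nontrivial (κ ⊗[R] B) := by
    have : Nontrivial (B ⧸ (maximalIdeal R).map (algebraMap R B)) := Ideal.Quotient.nontrivial_iff.2 hB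
    exact ((Algebra.TensorProduct.comm R κ B).toRingEquiv.trans
      (Algebra.TensorProduct.quotIdealMapEquivTensorQuot B (maximalIdeal R)).symm.toRingEquiv).toEquiv.nontrivial
  have hinj : Function.Injective ψκ := by
    let _ := hfield.toField
    exact ψκ.toRingHom.injective
  have hli : LinearIndependent κ (TensorProduct.mk R κ B 1 ∘ fun i => ψ (b i)) := by
    have h1 : LinearIndependent κ fun i => (b.baseChange κ) i := (b.baseChange κ).linearIndependent
    have h2 := h1.map' ψκ.toLinearMap (LinearMap.ker_eq_bot.2 hinj)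
    have heq : (TensorProduct.mk R κ B 1 ∘ fun i => ψ (b i)) =
        ψκ.toLinearMap ∘ fun i => (b.baseChange κ) i := by
      funext i
      show (1 : κ) ⊗ₜ ψ (b i) = ψκ ((b.baseChange κ) i)
      rw [Module.Basis.baseChange_apply]
      simp [ψκ]
    rw [heq]
    exact h2
  have hliR : LinearIndependent R fun i => ψ (b i) := Module.IsLocalRing.linearIndependent_of_flat _ hli
  refine (injective_iff_map_eq_zero ψ).2 fun z hz => ?_
  rw [← b.linearCombination_repr z] at hz ⊢
  have h3 : Finsupp.linearCombination R (fun i => ψ (b i)) (b.repr z) = 0 := by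
    rw [← hz, Finsupp.linearCombination_apply, Finsupp.linearCombination_apply, map_finsuppSum]
    simp
  rw [linearIndependent_iff.1 hliR _ h3, map_zero]

end Groth.Agent.Lib.Smoothing.Char.FlatParams
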