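import Groth.Agent.Lib.Smoothing.Char.RegSeq
import Groth.Agent.Lib.Regular.Indep
import Groth.Agent.Lib.Smoothing.Standard
import Groth.Agent.Lib.Smoothing.Linearize
import Mathlib.RingTheory.Flat.Stability
import Mathlib.Algebra.MvPolynomial.PDeriv

/-!
# The smooth model attached to approximate relations

Given relations `g` in a polynomial ring mapping into `(π^e)` locally, the algebra
`R'' = k[w, σ, μ, τ] / (σ_j g_j - Σ μ_{jl} x_l^e - Σ τ_{ji} f_i^N)` is smooth over `k` at the given
prime and outside `V(f)`, and the powers of the variables `x` form a regular sequence on it.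
-/

universe u

open MvPolynomial IsLocalRing

namespace Groth.Agent.Lib.Smoothing.Char.Model

variable {k : Type u} [Field k]

theorem isSmoothAt_of_minor {ν : Type} [Fintype ν] {m : ℕ} (G : Fin m → MvPolynomial ν k)
    (cols : Fin m → ν) (Q : Ideal (MvPolynomial ν k ⧸ Ideal.span (Set.range G))) [Q.IsPrime]
    (h : Ideal.Quotient.mk _ (Matrix.of fun j l => pderiv (cols l) (G j)).det ∉ Q) :
    Algebra.IsSmoothAt k Q := by
  classical
  have hcols : Function.Injective cols := by
    intro a b hab
    by_contra hne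
    refine h ?_
    rw [Matrix.det_zero_of_column_eq hne fun j => by simp [hab], map_zero]
    exact Q.zero_mem
  have hm : m ≤ Fintype.card ν := by simpa using Fintype.card_le_of_injective cols hcols
  let e := Fintype.equivFin ν
  let re : MvPolynomial ν k →ₐ[k] MvPolynomial (Fin (Fintype.card ν)) k := rename e
  let re' : MvPolynomial (Fin (Fintype.card ν)) k →ₐ[k] MvPolynomial ν k := rename e.symm
  have hre : ∀ z, re' (re z) = z := fun z => by simp [re, re', rename_rename]
  have hre' : ∀ z, re (re' z) = z := fun z => by simp [re, re', rename_rename]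
  let I := Ideal.span (Set.range G)
  let P : _root_.Smoothing.MarkedPresentation k (MvPolynomial ν k ⧸ I) :=
    { n := Fintype.card ν
      m := m
      c := m
      hcn := hm
      hcm := le_rfl
      rel := fun j => re (G j)
      hom := (Ideal.Quotient.mkₐ k I).comp re'
      surj := fun z => by
        obtain ⟨z, rfl⟩ := Ideal.Quotient.mk_surjective z
        exact ⟨re z, by show Ideal.Quotient.mk I (re' (re z)) = _; rw [hre]⟩
      ker_eq := by
        refine le_antisymm (fun z hz => ?_) (Ideal.span_le.2 ?_)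
        · have h1 : re' z ∈ I := Ideal.Quotient.eq_zero_iff_mem.1 hz
          have h2 := Ideal.mem_map_of_mem re.toRingHom h1
          rw [Ideal.map_span, ← Set.range_comp] at h2
          rwa [show re.toRingHom (re' z) = z from hre' z] at h2
        · rintro _ ⟨j, rfl⟩
          show Ideal.Quotient.mk I (re' (re (G j))) = 0
          rw [hre, Ideal.Quotient.eq_zero_iff_mem]
          exact Ideal.subset_span ⟨j, rfl⟩ }
  let cols' : Fin m → Fin (Fintype.card ν) := fun l => e (cols l)
  have hminor : _root_.Smoothing.jacobianMinor P.rel (Fin.castLE P.hcm) cols' =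
      re (Matrix.of fun j l => pderiv (cols l) (G j)).det := by
    rw [AlgHom.map_det]
    rw [_root_.Smoothing.jacobianMinor]
    congr 1
    refine Matrix.ext fun j l => ?_
    simp only [Matrix.of_apply, AlgHom.mapMatrix_apply, Matrix.map_apply, cols', re, P,
      Fin.castLE_refl, id]
    rw [pderiv_rename e.injective]
  have hstd : _root_.Smoothing.IsStrictlyStandard k (MvPolynomial ν k ⧸ I)
      (Ideal.Quotient.mk I (Matrix.of fun j l => pderiv (cols l) (G j)).det) :=
    ⟨P, Ideal.subset_span ⟨cols', by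
      show P.hom (_root_.Smoothing.jacobianMinor P.rel (Fin.castLE P.hcm) cols') = _
      rw [hminor]
      show Ideal.Quotient.mk I (re' (re _)) = _
      rw [hre]⟩, fun _ _ i hi => absurd i.2 (not_lt.2 hi)⟩
  have := (Groth.Agent.Lib.Smoothing.Standard.smooth_stablyFree _ hstd).1
  have : Algebra.FinitePresentation k (MvPolynomial ν k ⧸ I) :=
    Algebra.FinitePresentation.quotient (Submodule.fg_span (Set.finite_range G))
  exact Groth.Agent.Lib.Smoothing.Linearize.isSmoothAt_of_smooth_away Q h

/-- A triangular Jacobian bounds the height from below. -/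
theorem le_height_of_triangular {ν : Type} [Fintype ν] [DecidableEq ν] {a b : ℕ}
    (r₁ : Fin a → MvPolynomial ν k) (r₂ : Fin b → MvPolynomial ν k) (v₁ : Fin a → ν) (v₂ : Fin b → ν)
    (Q : Ideal (MvPolynomial ν k)) [Q.IsPrime] (h₁ : ∀ i, r₁ i ∈ Q) (h₂ : ∀ i, r₂ i ∈ Q)
    (hd₁ : ∀ i, pderiv (v₁ i) (r₁ i) ∉ Q) (ho₁ : ∀ i i', i' ≠ i → pderiv (v₁ i) (r₁ i') ∈ Q)
    (h21 : ∀ i i', pderiv (v₁ i) (r₂ i') ∈ Q)
    (hd₂ : ∀ i, pderiv (v₂ i) (r₂ i) ∉ Q) (ho₂ : ∀ i i', i' ≠ i → pderiv (v₂ i) (r₂ i') ∈ Q) :
    ((a + b : ℕ) : ℕ∞) ≤ Q.height := by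
  classical
  let R := Localization.AtPrime Q
  let alg := algebraMap (MvPolynomial ν k) R
  let r : Fin (a + b) → MvPolynomial ν k := Fin.append r₁ r₂
  have hr : ∀ i, r i ∈ Q := fun i => Fin.addCases (fun i => by simpa [r] using h₁ i)
    (fun i => by simpa [r] using h₂ i) i
  let f : Fin (a + b) → maximalIdeal R := fun i =>
    ⟨alg (r i), (IsLocalization.AtPrime.to_map_mem_maximal_iff R Q _).2 (hr i)⟩
  have hfli : LinearIndependent (ResidueField R) fun i => (maximalIdeal R).toCotangent (f i) := by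
    rw [Fintype.linearIndependent_iff]
    intro c hc
    choose z hz using fun i => IsLocalRing.residue_surjective (c i)
    obtain ⟨S, hS⟩ := IsLocalization.exist_integer_multiples_of_finite Q.primeCompl z
    choose q hq using hS
    have h0 : ∑ i, z i * alg (r i) ∈ maximalIdeal R ^ 2 := by
      have : ∑ i, z i • (maximalIdeal R).toCotangent (f i) = 0 := by
        rw [← hc]
        exact Finset.sum_congr rfl fun i _ => by
          rw [← hz i]; exact (algebraMap_smul (ResidueField R) (z i) _).symm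
      simp only [← map_smul, ← map_sum, Ideal.toCotangent_eq_zero] at this
      simpa [f] using this
    have h1 : alg (∑ i, q i * r i) ∈ maximalIdeal R ^ 2 := by
      rw [map_sum]
      have : ∑ i, alg (q i * r i) = alg S * ∑ i, z i * alg (r i) := by
        rw [Finset.mul_sum]
        refine Finset.sum_congr rfl fun i _ => ?_
        rw [map_mul, show alg (q i) = (S : MvPolynomial ν k) • z i from hq i, Algebra.smul_def, mul_assoc]
      rw [this]
      exact Ideal.mul_mem_left _ _ h0
    rw [← Localization.AtPrime.map_eq_maximalIdeal, ← Ideal.map_pow,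
      IsLocalization.algebraMap_mem_map_algebraMap_iff Q.primeCompl] at h1
    obtain ⟨t, ht, h1⟩ := h1
    have hD2 : ∀ v, ∀ y ∈ Q ^ 2, pderiv v y ∈ Q := by
      intro v y hy
      rw [pow_two] at hy
      refine Submodule.mul_induction_on hy (fun y hy z hz => ?_) fun y z hy hz => ?_
      · rw [pderiv_mul]
        exact add_mem (Q.mul_mem_left _ hz) (Q.mul_mem_right _ hy)
      · rw [map_add]; exact add_mem hy hz
    have h3 : ∀ v, ∑ i, q i * pderiv v (r i) ∈ Q := by
      intro v
      have h6 := hD2 v _ h1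
      rw [pderiv_mul] at h6
      have hsum : (∑ i, q i * r i) ∈ Q := sum_mem fun i _ => Q.mul_mem_left _ (hr i)
      have h7 := (Ideal.IsPrime.mem_or_mem inferInstance
        ((Q.add_mem_iff_right (Q.mul_mem_left _ hsum)).1 h6)).resolve_left ht
      simp only [map_sum, pderiv_mul, Finset.sum_add_distrib] at h7
      exact (Q.add_mem_iff_right (sum_mem fun i _ => Q.mul_mem_left _ (hr i))).1 h7
    have hq₁ : ∀ i, q (Fin.castAdd b i) ∈ Q := by
      intro i
      have h4 := h3 (v₁ i)
      rw [Fin.sum_univ_add] at h4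
      simp only [r, Fin.append_left, Fin.append_right] at h4
      rw [Q.add_mem_iff_left (sum_mem fun i' _ => Q.mul_mem_left _ (h21 i i')),
        ← Finset.add_sum_erase Finset.univ _ (Finset.mem_univ i),
        Q.add_mem_iff_left (sum_mem fun i' hi' => Q.mul_mem_left _ (ho₁ i i' (Finset.ne_of_mem_erase hi')))] at h4
      exact (Ideal.IsPrime.mem_or_mem inferInstance h4).resolve_right (hd₁ i)
    have hq₂ : ∀ i, q (Fin.natAdd a i) ∈ Q := by
      intro i
      have h4 := h3 (v₂ i)
      rw [Fin.sum_univ_add] at h4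
      simp only [r, Fin.append_left, Fin.append_right] at h4
      rw [Q.add_mem_iff_right (sum_mem fun i' _ => Q.mul_mem_right _ (hq₁ i')),
        ← Finset.add_sum_erase Finset.univ _ (Finset.mem_univ i),
        Q.add_mem_iff_left (sum_mem fun i' hi' => Q.mul_mem_left _ (ho₂ i i' (Finset.ne_of_mem_erase hi')))] at h4
      exact (Ideal.IsPrime.mem_or_mem inferInstance h4).resolve_right (hd₂ i)
    intro i
    have hqi : q i ∈ Q := Fin.addCases hq₁ hq₂ i
    have h5 : residue R (alg (q i)) = 0 :=
      (residue_eq_zero_iff _).2 ((IsLocalization.AtPrime.to_map_mem_maximal_iff R Q _).2 hqi)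
    rw [show alg (q i) = (S : MvPolynomial ν k) • z i from hq i, Algebra.smul_def, map_mul, mul_eq_zero] at h5
    rw [← hz i]
    exact h5.resolve_left fun h => S.2
      ((IsLocalization.AtPrime.to_map_mem_maximal_iff R Q _).1 ((residue_eq_zero_iff _).1 h))
  obtain ⟨t, -, hcard⟩ := Groth.Agent.Lib.Regular.Indep.exists_gens_extend f hfli
  have : IsRegularLocalRing R := IsRegularRing.isRegularLocalRing_localization Q
  have hdim : ((maximalIdeal R).spanFinrank : WithBot ℕ∞) = ringKrullDim R :=
    IsRegularLocalRing.spanFinrank_maximalIdeal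
  rw [IsLocalization.AtPrime.ringKrullDim_eq_height Q R] at hdim
  rw [← WithBot.coe_le_coe, ← hdim]
  exact_mod_cast (show a + b ≤ (maximalIdeal R).spanFinrank by omega)

/-- Heights can only grow in polynomial extensions. -/
theorem height_comap_rename_le {α β : Type} [Finite α] [Finite β] (Q : Ideal (MvPolynomial (α ⊕ β) k)) [Q.IsPrime] :
    (Q.comap (rename (R := k) (Sum.inl : α → α ⊕ β))).height ≤ Q.height := by
  let eTP : MvPolynomial β (MvPolynomial α k) ≃ₐ[k] MvPolynomial (α ⊕ β) k :=
    (MvPolynomial.sumAlgEquiv k β α).symm.trans (renameEquiv k (Equiv.sumComm β α))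
  let e : MvPolynomial β (MvPolynomial α k) ≃+* MvPolynomial (α ⊕ β) k := eTP.toRingEquiv
  have hC : ∀ z : MvPolynomial α k, e (C z) = rename Sum.inl z := by
    intro z
    suffices h : (eTP.toAlgHom.comp (IsScalarTower.toAlgHom k (MvPolynomial α k)
        (MvPolynomial β (MvPolynomial α k)))) = rename (Sum.inl : α → α ⊕ β) from DFunLike.congr_fun h z
    refine MvPolynomial.algHom_ext fun i => ?_
    show eTP (C (X i)) = rename Sum.inl (X i)
    simp [eTP]
  let Q' := Q.comap e
  rw [← RingEquiv.height_comap e Q]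
  have hlies : Q'.LiesOver (Q.comap (rename (R := k) (Sum.inl : α → α ⊕ β))) := ⟨by
    ext z
    show rename Sum.inl z ∈ Q ↔ e (C z) ∈ Q
    rw [hC]⟩
  rw [Ideal.height_eq_height_add_of_liesOver_of_hasGoingDown (Q.comap (rename (R := k) (Sum.inl : α → α ⊕ β))) Q']
  exact le_self_add

/-- The variables of the model. -/
abbrev Var (τ : Type) (m d L : ℕ) : Type := τ ⊕ (Fin m ⊕ (Fin m × Fin d) ⊕ (Fin m × Fin L))

theorem exists_model {Λ : Type u} [CommRing Λ] [Algebra k Λ] (q : Ideal Λ) [q.IsPrime] {τ : Type}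
    [Fintype τ] [DecidableEq τ] {d m L : ℕ} (θ : MvPolynomial τ k →ₐ[k] Λ) (xv : Fin d → τ)
    (hxv : Function.Injective xv) (g : Fin m → MvPolynomial τ k) (f : Fin L → MvPolynomial τ k)
    (hf : Ideal.span (Set.range f) = q.comap θ) (hx : ∀ l, θ (X (xv l)) ∈ q) (hg : ∀ j, θ (g j) ∈ q)
    (cols : Fin m → τ) (hcols : (Matrix.of fun i j => pderiv (cols j) (g i)).det ∉ q.comap θ)
    (hht : ((d + m : ℕ) : ℕ∞) ≤ (q.comap θ).height) (e N : ℕ) (he : 2 ≤ e) (hN : 0 < N)
    (s : Fin m → Λ) (hs : ∀ j, s j ∉ q) (ν : Fin m → Fin d → Λ)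
    (hrel : ∀ j, s j * θ (g j) = ∑ l, ν j l * θ (X (xv l)) ^ e) :
    ∃ (R'' : Type u) (_ : CommRing R'') (_ : Algebra k R'') (emb : MvPolynomial τ k →ₐ[k] R'')
      (θR : R'' →ₐ[k] Λ) (σ : Fin m → R'') (T : Fin m → Fin L → R'') (μ : Fin m → Fin d → R''),
      Algebra.FinitePresentation k R'' ∧ (∀ z, θR (emb z) = θ z) ∧
      (∀ j, σ j * emb (g j) = (∑ l, μ j l * emb (X (xv l)) ^ e) + ∑ i, T j i * emb (f i) ^ N) ∧
      (∀ j, θR (σ j) ∉ q) ∧ (∀ j i, θR (T j i) = 0) ∧
      (∀ z, θ z ∈ q → emb z ∈ _root_.Smoothing.singularIdeal k R'') ∧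
      (∃ ρ ∈ _root_.Smoothing.singularIdeal k R'', θR ρ ∉ q) ∧
      (∀ (i : Fin d) (z : R''), emb (X (xv i)) * z ∈
          Ideal.span (Set.range fun l : {l : Fin d // (l : ℕ) < (i : ℕ)} => emb (X (xv l)) ^ e) →
        z ∈ Ideal.span (Set.range fun l : {l : Fin d // (l : ℕ) < (i : ℕ)} => emb (X (xv l)) ^ e)) := by
  classical
  let V := Var τ m d L
  let em : MvPolynomial τ k →ₐ[k] MvPolynomial V k := rename Sum.inl
  let sv : Fin m → MvPolynomial V k := fun j => X (Sum.inr (Sum.inl j))
  let mv : Fin m → Fin d → MvPolynomial V k := fun j l => X (Sum.inr (Sum.inr (Sum.inl (j, l))))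
  let tv : Fin m → Fin L → MvPolynomial V k := fun j i => X (Sum.inr (Sum.inr (Sum.inr (j, i))))
  let G : Fin m → MvPolynomial V k := fun j =>
    sv j * em (g j) - (∑ l, mv j l * em (X (xv l)) ^ e) - ∑ i, tv j i * em (f i) ^ N
  let val : V → Λ := Sum.elim (fun v => θ (X v)) (Sum.elim s (Sum.elim (fun p => ν p.1 p.2) fun _ => 0))
  let θV : MvPolynomial V k →ₐ[k] Λ := aeval val
  have hem : ∀ z, θV (em z) = θ z := fun z => by
    show aeval val (rename Sum.inl z) = θ z
    rw [aeval_rename]
    exact DFunLike.congr_fun (aeval_unique θ).symm z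
  have hG : ∀ j, θV (G j) = 0 := fun j => by
    simp only [G, map_sub, map_mul, map_sum, map_pow, hem, sv, mv, tv, θV, aeval_X, val,
      Sum.elim_inr, Sum.elim_inl, zero_mul, Finset.sum_const_zero, sub_zero, hrel, sub_self]
  let I := Ideal.span (Set.range G)
  let R'' := MvPolynomial V k ⧸ I
  have hfp : Algebra.FinitePresentation k R'' :=
    Algebra.FinitePresentation.quotient (Submodule.fg_span (Set.finite_range G))
  let θR : R'' →ₐ[k] Λ := Ideal.Quotient.liftₐ I θV fun z hz => by
    refine (Ideal.span_le (I := RingHom.ker θV)).2 ?_ hz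
    rintro _ ⟨j, rfl⟩
    exact hG j
  let emb : MvPolynomial τ k →ₐ[k] R'' := (Ideal.Quotient.mkₐ k I).comp em
  have hxP : ∀ l, X (xv l) ∈ Ideal.span (Set.range f) := fun l => hf.ge (hx l)
  -- derivatives
  have hdem : ∀ (z : MvPolynomial τ k) (v : τ), pderiv (Sum.inl v : V) (em z) = em (pderiv v z) :=
    fun z v => pderiv_rename Sum.inl_injective v z
  have hdem0 : ∀ (z : MvPolynomial τ k) (w), pderiv (Sum.inr w : V) (em z) = 0 := fun z w => by
    refine pderiv_eq_zero_of_notMem_vars fun h => ?_
    obtain ⟨v, -, hv⟩ := Finset.mem_image.1 (vars_rename _ z h)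
    exact Sum.inl_ne_inr hv
  have hdT : ∀ j i j', pderiv (Sum.inr (Sum.inr (Sum.inr (j, i))) : V) (G j') =
      if j' = j then - em (f i) ^ N else 0 := by
    intro j i j'
    simp only [G, map_sub, map_sum, pderiv_mul, pderiv_pow, hdem0, mul_zero, add_zero, sv, mv, tv]
    rw [pderiv_X_of_ne (by simp), zero_mul, zero_sub,
      Finset.sum_eq_zero fun l _ => by rw [pderiv_X_of_ne (by simp), zero_mul], neg_zero, zero_sub]
    by_cases h : j' = j
    · subst h
      rw [if_pos rfl, Finset.sum_eq_single i]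
      · simp
      · intro i' _ hi'
        rw [pderiv_X_of_ne (by simp [hi']), zero_mul]
      · simp
    · rw [if_neg h, neg_eq_zero]
      refine Finset.sum_eq_zero fun i' _ => ?_
      rw [pderiv_X_of_ne (by simp [h]), zero_mul]
  have hminor : ∀ (Q : Ideal R'') [Q.IsPrime] (i : Fin L), emb (f i) ∉ Q → Algebra.IsSmoothAt k Q := by
    intro Q _ i hi
    refine isSmoothAt_of_minor G (fun j => Sum.inr (Sum.inr (Sum.inr (j, i)))) Q fun h => hi ?_
    have hdet : (Matrix.of fun j l => pderiv (Sum.inr (Sum.inr (Sum.inr (l, i))) : V) (G j)).det =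
        (- em (f i) ^ N) ^ m := by
      rw [show (Matrix.of fun j l => pderiv (Sum.inr (Sum.inr (Sum.inr (l, i))) : V) (G j)) =
        Matrix.diagonal fun _ : Fin m => - em (f i) ^ N from Matrix.ext fun j l => by
          rw [Matrix.of_apply, hdT, Matrix.diagonal_apply]]
      simp [Matrix.det_diagonal]
    rw [hdet, map_pow, map_neg, map_pow] at h
    have h2 := Ideal.IsPrime.mem_of_pow_mem inferInstance _ h
    exact Ideal.IsPrime.mem_of_pow_mem inferInstance _ (neg_mem_iff.1 h2)
  refine ⟨R'', inferInstance, inferInstance, emb, θR, fun j => Ideal.Quotient.mk I (sv j),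
    fun j i => Ideal.Quotient.mk I (tv j i), fun j l => Ideal.Quotient.mk I (mv j l), hfp, hem,
    fun j => ?_, fun j => ?_, fun j i => ?_, fun z hz => ?_, ?_, fun i z hz => ?_⟩
  · have h0 : Ideal.Quotient.mk I (G j) = 0 :=
      Ideal.Quotient.eq_zero_iff_mem.2 (Ideal.subset_span ⟨j, rfl⟩)
    simp only [G, map_sub, map_mul, map_sum, map_pow, sub_eq_zero, sub_eq_iff_eq_add] at h0
    exact h0.trans (by rw [zero_add, add_comm]; rfl)
  · show θV (sv j) ∉ q
    simp only [θV, sv, aeval_X, val, Sum.elim_inr, Sum.elim_inl]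
    exact hs j
  · show θV (tv j i) = 0
    simp only [θV, tv, aeval_X, val, Sum.elim_inr]
  · rw [SingularComp.mem_singularIdeal_iff]
    intro Q _ hQ
    have hex : ∃ i, emb (f i) ∉ Q := by
      by_contra hc
      simp only [not_exists, not_not] at hc
      exact hQ ((Ideal.span_le (I := Q.comap emb)).2 (by rintro _ ⟨i, rfl⟩; exact hc i)
        (hf.ge hz))
    obtain ⟨i, hi⟩ := hex
    exact hminor Q i hi
  · let pq : Ideal R'' := q.comap θR
    have : Algebra.IsSmoothAt k pq := by
      refine isSmoothAt_of_minor G (fun j => Sum.inl (cols j)) pq fun h => ?_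
      have h0 : (Ideal.Quotient.mk q).comp θV.toRingHom
          (Matrix.of fun j l => pderiv (Sum.inl (cols l) : V) (G j)).det = 0 :=
        Ideal.Quotient.eq_zero_iff_mem.2 h
      rw [RingHom.map_det] at h0
      have hmat : ((Ideal.Quotient.mk q).comp θV.toRingHom).mapMatrix
          (Matrix.of fun j l => pderiv (Sum.inl (cols l) : V) (G j)) =
          Matrix.diagonal (fun j => Ideal.Quotient.mk q (s j)) *
            ((Ideal.Quotient.mk q).comp θ.toRingHom).mapMatrix
              (Matrix.of fun j l => pderiv (cols l) (g j)) := by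
        refine Matrix.ext fun j l => ?_
        rw [Matrix.diagonal_mul]
        simp only [RingHom.mapMatrix_apply, Matrix.map_apply, Matrix.of_apply, RingHom.comp_apply,
          AlgHom.toRingHom_eq_coe, RingHom.coe_coe]
        rw [← map_mul, Ideal.Quotient.eq]
        have hz1 : ∀ a b, θV (tv a b) = 0 := fun a b => by simp only [θV, tv, aeval_X, val, Sum.elim_inr]
        have hs1 : θV (sv j) = s j := by simp only [θV, sv, aeval_X, val, Sum.elim_inr, Sum.elim_inl]
        simp only [G, map_sub, map_sum, pderiv_mul, pderiv_pow, map_add, map_mul, map_pow, hdem, hem,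
          hz1, zero_mul, mul_zero, add_zero, hs1]
        have e1 : pderiv (Sum.inl (cols l) : V) (sv j) = 0 := pderiv_X_of_ne (by simp)
        have e2 : ∀ l', pderiv (Sum.inl (cols l) : V) (mv j l') = 0 := fun l' => pderiv_X_of_ne (by simp)
        have e3 : ∀ i, pderiv (Sum.inl (cols l) : V) (tv j i) = 0 := fun i => pderiv_X_of_ne (by simp)
        simp only [e1, e2, e3, map_zero, zero_mul, zero_add, Finset.sum_const_zero, sub_zero]
        rw [sub_sub_cancel_left, neg_mem_iff]
        refine q.sum_mem fun l' _ => q.mul_mem_left _ (q.mul_mem_right _ (q.mul_mem_left _ ?_))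
        exact Ideal.pow_mem_of_mem _ (hx l') _ (by omega)
      rw [hmat, Matrix.det_mul, Matrix.det_diagonal, ← map_prod, mul_eq_zero] at h0
      rcases h0 with h0 | h0
      · rw [Ideal.Quotient.eq_zero_iff_mem, Ideal.IsPrime.prod_mem_iff] at h0
        obtain ⟨j, -, hj⟩ := h0
        exact hs j hj
      · rw [← RingHom.map_det, RingHom.comp_apply, Ideal.Quotient.eq_zero_iff_mem] at h0
        exact hcols h0
    obtain ⟨ρ, hρ, hρ'⟩ := Algebra.IsSmoothAt.exists_notMem_smooth k pq
    refine ⟨ρ, SingularComp.mem_singularIdeal_iff.2 fun Q _ hQ => ?_, hρ⟩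
    exact Algebra.basicOpen_subset_smoothLocus_iff_smooth.2 hρ'
      (show (⟨Q, ‹_›⟩ : PrimeSpectrum R'') ∈ PrimeSpectrum.basicOpen ρ from hQ)
  · obtain ⟨z, rfl⟩ := Ideal.Quotient.mk_surjective z
    let xl : {l : Fin d // (l : ℕ) < (i : ℕ)} → MvPolynomial V k := fun l => em (X (xv l)) ^ e
    let l₀ : List (MvPolynomial V k) :=
      List.ofFn G ++ (Finset.univ : Finset {l : Fin d // (l : ℕ) < (i : ℕ)}).toList.map xl
    have hl₀ : Ideal.ofList l₀ = I ⊔ Ideal.span (Set.range xl) := by
      rw [Ideal.ofList_append, Ideal.ofList, Ideal.ofList]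
      congr 1
      · congr 1; ext t; simp [List.mem_ofFn']
      · congr 1; ext t; simp
    have himg : (Ideal.span (Set.range fun l : {l : Fin d // (l : ℕ) < (i : ℕ)} => emb (X (xv l)) ^ e)).comap
        (Ideal.Quotient.mk I) = Ideal.ofList l₀ := by
      rw [show (fun l : {l : Fin d // (l : ℕ) < (i : ℕ)} => emb (X (xv l)) ^ e) =
        Ideal.Quotient.mk I ∘ xl from funext fun l => by simp [xl, emb],
        Set.range_comp, ← Ideal.map_span, Ideal.comap_map_of_surjective' _ Ideal.Quotient.mk_surjective,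
        Ideal.mk_ker, hl₀, sup_comm]
    have hz' : em (X (xv i)) * z ∈ Ideal.ofList l₀ := by
      rw [← himg, Ideal.mem_comap, map_mul]; exact hz
    rw [← Ideal.mem_comap]
    rw [himg]
    refine RegSeq.mem_of_mul_mem l₀ (em (X (xv i))) ?_ z hz'
    intro Q _ hQ hv
    have hGQ : ∀ j, G j ∈ Q := fun j => hQ _ (List.mem_append_left _ ((List.mem_ofFn' _ _).2 ⟨j, rfl⟩))
    have hxQ : ∀ l : Fin d, (l : ℕ) ≤ (i : ℕ) → em (X (xv l)) ∈ Q := by
      intro l hl
      rcases hl.lt_or_eq with hl | hl
      · exact Ideal.IsPrime.mem_of_pow_mem inferInstance e (hQ (xl ⟨l, hl⟩)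
          (List.mem_append_right _ (List.mem_map.2 ⟨⟨l, hl⟩, by simp, rfl⟩)))
      · rwa [Fin.ext hl]
    have hlen : l₀.length + 1 = m + ((i : ℕ) + 1) := by
      have : Fintype.card {l : Fin d // (l : ℕ) < (i : ℕ)} = (i : ℕ) := by
        rw [Fintype.card_subtype]
        rw [show (Finset.univ.filter fun l : Fin d => (l : ℕ) < (i : ℕ)) = Finset.Iio i by ext; simp]
        simp
      simp only [l₀, List.length_append, List.length_ofFn, List.length_map, Finset.length_toList, Finset.card_univ, this]
      omega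
    rw [hlen]
    by_cases hall : ∀ i', em (f i') ∈ Q
    · refine le_trans ?_ (height_comap_rename_le Q)
      have hle : Ideal.span (Set.range f) ≤ Q.comap (rename (R := k) (Sum.inl : τ → V)) :=
        Ideal.span_le.2 (by rintro _ ⟨i', rfl⟩; exact hall i')
      refine le_trans ?_ (Ideal.height_mono hle)
      rw [hf]
      refine le_trans ?_ hht
      exact_mod_cast (show m + ((i : ℕ) + 1) ≤ d + m by have := i.2; omega)
    · simp only [not_forall] at hall
      obtain ⟨i', hi'⟩ := hall
      let incl : Fin ((i : ℕ) + 1) → Fin d := Fin.castLE i.2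
      refine le_height_of_triangular G (fun l : Fin ((i : ℕ) + 1) => em (X (xv (incl l))))
        (fun j => Sum.inr (Sum.inr (Sum.inr (j, i')))) (fun l => Sum.inl (xv (incl l))) Q hGQ
        (fun l => hxQ _ (Nat.lt_succ_iff.1 l.2)) ?_ ?_ ?_ ?_ ?_
      · intro j h
        rw [hdT, if_pos rfl, neg_mem_iff] at h
        exact hi' (Ideal.IsPrime.mem_of_pow_mem inferInstance N h)
      · intro j j' hjj
        rw [hdT, if_neg hjj]
        exact Q.zero_mem
      · intro j l
        rw [hdem0]
        exact Q.zero_mem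
      · intro l h
        rw [hdem, pderiv_X_self, map_one] at h
        exact (inferInstance : Q.IsPrime).ne_top ((Ideal.eq_top_iff_one _).2 h)
      · intro l l' hll
        rw [hdem, pderiv_X_of_ne, map_zero]
        · exact Q.zero_mem
        · exact fun h => hll (Fin.castLE_injective _ (hxv h))

end Groth.Agent.Lib.Smoothing.Char.Model
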