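import Groth.Agent.Lib.Smoothing.Char.Inj
import Groth.Agent.Lib.Smoothing.Char.Coefficient
import Groth.Agent.Lib.Smoothing.Char.Conormal
import Groth.Agent.Lib.Smoothing.Char.Model
import Groth.Agent.Lib.Smoothing.Char.FlatParams

/-!
# Lifting into a smooth model at a geometrically regular point
-/

universe u

open IsLocalRing MvPolynomial
open scoped TensorProduct

namespace Groth.Agent.Lib.Smoothing.Char.Core

/-- The kernel of `K ⊗ Ω_k → Ω_K` is finite. -/
theorem finite_ker {k L : Type u} [Field k] [CommRing L] [IsLocalRing L] [IsNoetherianRing L]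
    [Algebra k L]
    (hinj : Function.Injective ((KaehlerDifferential.mapBaseChange (⊥ : Subfield k) k L).lTensor
      (ResidueField L)))
    (K : Type u) [Field K] [Algebra L K] [Algebra k K] [IsScalarTower k L K]
    [IsScalarTower (⊥ : Subfield k) L K]
    (hsurj : Function.Surjective (algebraMap L K)) :
    Module.Finite K (LinearMap.ker (KaehlerDifferential.mapBaseChange (⊥ : Subfield k) k K)) := by
  let P := (⊥ : Subfield k)
  have hker : RingHom.ker (algebraMap L K) = maximalIdeal L :=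
    IsLocalRing.eq_maximalIdeal (RingHom.ker_isMaximal_of_surjective _ hsurj)
  let e₁ : ResidueField L ≃ₗ[L] K :=
    ((Ideal.quotientEquivAlgOfEq L hker.symm).trans
      (Ideal.quotientKerAlgEquivOfSurjective (f := Algebra.ofId L K) hsurj)).toLinearEquiv
  have hinjK : Function.Injective ((KaehlerDifferential.mapBaseChange P k L).lTensor K) := by
    intro x y hxy
    obtain ⟨x, rfl⟩ := (e₁.rTensor (L ⊗[k] Ω[k⁄P])).surjective x
    obtain ⟨y, rfl⟩ := (e₁.rTensor (L ⊗[k] Ω[k⁄P])).surjective y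
    refine congrArg _ (hinj ((e₁.rTensor Ω[L⁄P]).injective ?_))
    have h : ∀ z, e₁.rTensor Ω[L⁄P]
        ((KaehlerDifferential.mapBaseChange P k L).lTensor (ResidueField L) z) =
        (KaehlerDifferential.mapBaseChange P k L).lTensor K (e₁.rTensor (L ⊗[k] Ω[k⁄P]) z) := fun z => by
      induction z using TensorProduct.induction_on with
      | zero => simp
      | tmul a b => simp
      | add a b ha hb => simp only [map_add, ha, hb]
    rw [h, h]
    exact hxy
  let β : K ⊗[k] Ω[k⁄P] →ₗ[L] K ⊗[L] Ω[L⁄P] :=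
    (KaehlerDifferential.mapBaseChange P k L).lTensor K ∘ₗ
      (TensorProduct.AlgebraTensorModule.cancelBaseChange k L L K Ω[k⁄P]).symm.toLinearMap
  have hβ : Function.Injective β := hinjK.comp (LinearEquiv.injective _)
  have hcomp : ∀ z, KaehlerDifferential.mapBaseChange P L K (β z) =
      KaehlerDifferential.mapBaseChange P k K z := fun z => by
    induction z using TensorProduct.induction_on with
    | zero => simp only [map_zero]
    | tmul a b =>
      simp only [β, LinearMap.comp_apply, LinearEquiv.coe_coe,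
        TensorProduct.AlgebraTensorModule.cancelBaseChange_symm_tmul, LinearMap.lTensor_tmul,
        KaehlerDifferential.mapBaseChange_tmul, one_smul]
      congr 1
      induction (show b ∈ Submodule.span k (Set.range (KaehlerDifferential.D P k)) from
        KaehlerDifferential.span_range_derivation P k ▸ Submodule.mem_top) using Submodule.span_induction with
      | mem x hx =>
        obtain ⟨c, rfl⟩ := hx
        simp only [KaehlerDifferential.map_D, ← IsScalarTower.algebraMap_apply]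
      | zero => simp only [map_zero]
      | add x y _ _ hx hy => simp only [map_add, hx, hy]
      | smul c x _ hx =>
        simp only [map_smul, LinearMap.map_smul_of_tower, hx]
    | add x y hx hy => simp only [map_add, hx, hy]
  let Z := LinearMap.ker (KaehlerDifferential.mapBaseChange P k K)
  let W : Submodule L (K ⊗[L] Ω[L⁄P]) :=
    (LinearMap.ker (KaehlerDifferential.mapBaseChange P L K)).restrictScalars L
  have hW : W = LinearMap.range (KaehlerDifferential.kerCotangentToTensor P L K) := by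
    ext z
    exact KaehlerDifferential.exact_kerCotangentToTensor_mapBaseChange P L K hsurj z
  have : Module.Finite L W := by
    have : Module.Finite L (RingHom.ker (algebraMap L K)) :=
      Module.Finite.iff_fg.2 (IsNoetherian.noetherian _)
    have : Module.Finite L (RingHom.ker (algebraMap L K)).Cotangent :=
      Module.Finite.of_surjective _ (Ideal.toCotangent_surjective _)
    rw [hW]
    exact Module.Finite.range _
  have : IsNoetherian L W := isNoetherian_of_isNoetherianRing_of_finite L W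
  let γ : Z.restrictScalars L →ₗ[L] W := LinearMap.codRestrict W (β ∘ₗ (Z.restrictScalars L).subtype) fun z => by
    show KaehlerDifferential.mapBaseChange P L K (β z) = 0
    rw [hcomp]
    exact z.2
  have hγ : Function.Injective γ := fun x y h => Subtype.ext (hβ (congrArg Subtype.val h))
  have : Module.Finite L Z :=
    (Module.Finite.of_injective γ hγ : Module.Finite L (Z.restrictScalars L))
  exact Module.Finite.of_restrictScalars_finite L K Z

theorem isLocalRing_quotient {k : Type u} [Field k] {d : ℕ} (K : Ideal (MvPolynomial (Fin d) k))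
    (hK : K ≤ Ideal.span (Set.range X))
    (hK' : ∃ N, Ideal.span (Set.range (X : Fin d → MvPolynomial (Fin d) k)) ^ N ≤ K) :
    ∃ _ : IsLocalRing (MvPolynomial (Fin d) k ⧸ K),
      maximalIdeal (MvPolynomial (Fin d) k ⧸ K) =
        (Ideal.span (Set.range X)).map (Ideal.Quotient.mk K) ∧
      IsNilpotent (maximalIdeal (MvPolynomial (Fin d) k ⧸ K)) := by
  let mX := Ideal.span (Set.range (X : Fin d → MvPolynomial (Fin d) k))
  obtain ⟨N, hN⟩ := hK'
  have hnil : ∀ z ∈ mX, IsNilpotent (Ideal.Quotient.mk K z) := fun z hz =>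
    ⟨N, by rw [← map_pow, Ideal.Quotient.eq_zero_iff_mem]; exact hN (Ideal.pow_mem_pow hz N)⟩
  have h1 : constantCoeff '' (mX : Set (MvPolynomial (Fin d) k)) ⊆ {0} := by
    rintro _ ⟨z, hz, rfl⟩
    exact (Ideal.span_le (I := RingHom.ker constantCoeff)).2 (by rintro _ ⟨i, rfl⟩; simp) hz
  have : Nontrivial (MvPolynomial (Fin d) k ⧸ K) := Ideal.Quotient.nontrivial_iff.2 fun h => by
    simpa using h1 ⟨1, hK (h ▸ Submodule.mem_top), rfl⟩
  have hunit : ∀ z, constantCoeff z ≠ 0 → IsUnit (Ideal.Quotient.mk K z) := fun z hz => by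
    have h2 : Ideal.Quotient.mk K z = Ideal.Quotient.mk K (z - C (constantCoeff z)) +
        Ideal.Quotient.mk K (C (constantCoeff z)) := by rw [← map_add, sub_add_cancel]
    rw [h2, add_comm]
    exact (hnil _ (FlatParams.sub_C_mem_span_X z)).isUnit_add_left_of_commute
      (((isUnit_iff_ne_zero.2 hz).map (C : k →+* MvPolynomial (Fin d) k)).map (Ideal.Quotient.mk K)) (Commute.all _ _)
  have hloc : IsLocalRing (MvPolynomial (Fin d) k ⧸ K) := by
    refine IsLocalRing.of_isUnit_or_isUnit_one_sub_self fun z => ?_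
    obtain ⟨z, rfl⟩ := Ideal.Quotient.mk_surjective z
    by_cases hz : constantCoeff z = 0
    · right
      rw [← map_one (Ideal.Quotient.mk K), ← map_sub]
      exact hunit _ (by simp [hz])
    · exact Or.inl (hunit z hz)
  have hmax : maximalIdeal (MvPolynomial (Fin d) k ⧸ K) = mX.map (Ideal.Quotient.mk K) := by
    refine le_antisymm (fun z hz => ?_) (IsLocalRing.le_maximalIdeal fun h => ?_)
    · obtain ⟨z, rfl⟩ := Ideal.Quotient.mk_surjective z
      have hz0 : constantCoeff z = 0 := by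
        by_contra h
        exact (mem_maximalIdeal _).1 hz (hunit z h)
      have := FlatParams.sub_C_mem_span_X z
      rw [hz0, map_zero, sub_zero] at this
      exact Ideal.mem_map_of_mem _ this
    · obtain ⟨y, hy, hy'⟩ := (Ideal.mem_map_iff_of_surjective _ Ideal.Quotient.mk_surjective).1
        (h ▸ Submodule.mem_top : (1 : MvPolynomial (Fin d) k ⧸ K) ∈ mX.map (Ideal.Quotient.mk K))
      exact not_isNilpotent_one (hy' ▸ hnil y hy)
  refine ⟨hloc, hmax, N, ?_⟩
  rw [hmax, ← Ideal.map_pow, Ideal.zero_eq_bot, Ideal.map_eq_bot_iff_le_ker, Ideal.mk_ker]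
  exact hN

theorem flat_quotient {P S : Type u} [CommRing P] [CommRing S] [Algebra P S] [Module.Flat P S]
    (K : Ideal P) : Module.Flat (P ⧸ K) (S ⧸ K.map (algebraMap P S)) :=
  Module.Flat.of_linearEquiv (R := P ⧸ K) (M := (P ⧸ K) ⊗[P] S)
    ({ ((TensorProduct.comm P _ _).trans
        ((Algebra.TensorProduct.quotIdealMapEquivTensorQuot S K).symm.toLinearEquiv.restrictScalars P)) with
      map_smul' := fun c z => by
        obtain ⟨c, rfl⟩ := Ideal.Quotient.mk_surjective c
        let e := (TensorProduct.comm P (P ⧸ K) S).trans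
          ((Algebra.TensorProduct.quotIdealMapEquivTensorQuot S K).symm.toLinearEquiv.restrictScalars P)
        show e (algebraMap P (P ⧸ K) c • z) = algebraMap P (P ⧸ K) c • e z
        rw [IsScalarTower.algebraMap_smul, IsScalarTower.algebraMap_smul, map_smul] } :
      (P ⧸ K) ⊗[P] S ≃ₗ[P ⧸ K] (S ⧸ K.map (algebraMap P S))).symm

/-- The kernel of the map to an Artinian quotient of a regular local ring, over the parameters. -/
theorem ker_le {k : Type u} [Field k] {d : ℕ} {e : ℕ} (he : e ≠ 0) {L : Type u} [CommRing L]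
    [IsRegularLocalRing L] [Algebra (MvPolynomial (Fin d) k) L] (hd : ringKrullDim L = d)
    (hπ : Ideal.span (Set.range fun l => algebraMap (MvPolynomial (Fin d) k) L (X l)) = maximalIdeal L)
    {Rl : Type u} [CommRing Rl] [IsLocalRing Rl] [Algebra (MvPolynomial (Fin d) k) Rl]
    (θl : Rl →ₐ[MvPolynomial (Fin d) k] L) {m : ℕ} (g : Fin m → Rl)
    (hQreg : IsRegularLocalRing (Rl ⧸ Ideal.span (Set.range g)))
    (hQdim : ringKrullDim (Rl ⧸ Ideal.span (Set.range g)) = d)
    (hmax : maximalIdeal Rl =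
      Ideal.span (Set.range (fun l => algebraMap (MvPolynomial (Fin d) k) Rl (X l)) ∪ Set.range g))
    (hg : ∀ j, θl (g j) ∈ Ideal.span (Set.range fun l => algebraMap (MvPolynomial (Fin d) k) L (X l) ^ e))
    {T : Type u} [CommRing T] (ψ : Rl →+* T) (hψg : ∀ j, ψ (g j) = 0)
    (hψx : ∀ l, ψ (algebraMap (MvPolynomial (Fin d) k) Rl (X l)) ^ e = 0)
    (z : Rl) (hz : θl z ∈ Ideal.span (Set.range fun l => algebraMap (MvPolynomial (Fin d) k) L (X l) ^ e)) :
    ψ z = 0 := by
  let Ig : Ideal Rl := Ideal.span (Set.range g)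
  let K : Ideal (MvPolynomial (Fin d) k) := Ideal.span (Set.range fun l => X l ^ e)
  have hmQ : Ideal.span (Set.range fun l => algebraMap (MvPolynomial (Fin d) k) (Rl ⧸ Ig) (X l)) =
      maximalIdeal (Rl ⧸ Ig) := by
    rw [← map_maximalIdeal_of_surjective (Ideal.Quotient.mk Ig) Ideal.Quotient.mk_surjective, hmax,
      Ideal.span_union, Ideal.map_sup, Ideal.map_span, ← Set.range_comp, show
        (Ideal.span (Set.range g)).map (Ideal.Quotient.mk Ig) = ⊥ from Ideal.map_quotient_self _, sup_bot_eq]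
    rfl
  have hflQ : Module.Flat (MvPolynomial (Fin d) k) (Rl ⧸ Ig) := FlatParams.flat hQdim hmQ
  have hflL : Module.Flat (MvPolynomial (Fin d) k) L := FlatParams.flat hd hπ
  obtain ⟨_, hmax0, hnil0⟩ := isLocalRing_quotient K
    (Ideal.span_le.2 (by
      rintro _ ⟨l, rfl⟩
      show X l ^ e ∈ Ideal.span (Set.range (X : Fin d → MvPolynomial (Fin d) k))
      exact Ideal.pow_mem_of_mem _ (Ideal.subset_span (s := Set.range X) ⟨l, rfl⟩) e (Nat.pos_of_ne_zero he)))
    (Ideal.exists_pow_le_of_le_radical_of_fg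
      (show Ideal.span (Set.range (X : Fin d → MvPolynomial (Fin d) k)) ≤ K.radical from Ideal.span_le.2 (by
        rintro _ ⟨l, rfl⟩; exact ⟨e, Ideal.subset_span ⟨l, rfl⟩⟩)) (IsNoetherian.noetherian _))
  have := flat_quotient (S := Rl ⧸ Ig) K
  have := flat_quotient (S := L) K
  have hKJ : K.map (algebraMap (MvPolynomial (Fin d) k) L) =
      Ideal.span (Set.range fun l => algebraMap (MvPolynomial (Fin d) k) L (X l) ^ e) := by
    rw [Ideal.map_span, ← Set.range_comp]
    simp only [Function.comp_def, map_pow]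
  let KL := K.map (algebraMap (MvPolynomial (Fin d) k) L)
  let f₁ : Rl ⧸ Ig →ₐ[MvPolynomial (Fin d) k] L ⧸ KL :=
    Ideal.Quotient.liftₐ Ig ((Ideal.Quotient.mkₐ _ KL).comp θl) fun y hy => by
      refine (Ideal.span_le (I := RingHom.ker ((Ideal.Quotient.mkₐ (MvPolynomial (Fin d) k) KL).comp θl))).2 ?_ hy
      rintro _ ⟨j, rfl⟩
      show Ideal.Quotient.mk KL (θl (g j)) = 0
      rw [Ideal.Quotient.eq_zero_iff_mem]
      exact hKJ.ge (hg j)
  let f₂ : ((Rl ⧸ Ig) ⧸ K.map (algebraMap (MvPolynomial (Fin d) k) (Rl ⧸ Ig))) →ₐ[MvPolynomial (Fin d) k ⧸ K]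
      (L ⧸ KL) :=
    { Ideal.Quotient.lift _ f₁.toRingHom (fun y hy => by
        refine (Ideal.map_le_iff_le_comap (K := RingHom.ker f₁.toRingHom)).2 ?_ hy
        intro t ht
        show f₁ (algebraMap _ (Rl ⧸ Ig) t) = 0
        rw [f₁.commutes, ← Ideal.Quotient.mk_algebraMap, Ideal.Quotient.eq_zero_iff_mem]
        exact Ideal.mem_map_of_mem _ ht) with
      commutes' := fun t => by
        obtain ⟨t, rfl⟩ := Ideal.Quotient.mk_surjective t
        exact f₁.commutes t }
  have hJe' : K.map (algebraMap (MvPolynomial (Fin d) k) (Rl ⧸ Ig)) ≤ maximalIdeal (Rl ⧸ Ig) := by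
    refine Ideal.map_le_iff_le_comap.2 (Ideal.span_le.2 ?_)
    rintro _ ⟨l, rfl⟩
    show algebraMap (MvPolynomial (Fin d) k) (Rl ⧸ Ig) (X l ^ e) ∈ maximalIdeal (Rl ⧸ Ig)
    rw [map_pow]
    exact Ideal.pow_mem_of_mem _ (hmQ ▸ Ideal.subset_span ⟨l, rfl⟩) e (Nat.pos_of_ne_zero he)
  have hinj2 : Function.Injective f₂ := by
    refine FlatParams.injective_of_flat hnil0 f₂ ?_ fun h => ?_
    · rw [hmax0, Ideal.map_map, Ideal.map_span _ (Set.range X), ← Set.range_comp]
      refine (Ideal.Quotient.maximal_ideal_iff_isField_quotient _).1 ?_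
      have hq' : Ideal.span (Set.range fun l => algebraMap (MvPolynomial (Fin d) k)
          ((Rl ⧸ Ig) ⧸ K.map (algebraMap (MvPolynomial (Fin d) k) (Rl ⧸ Ig))) (X l)) =
          (maximalIdeal (Rl ⧸ Ig)).map (Ideal.Quotient.mk _) := by
        rw [← hmQ, Ideal.map_span _ (Set.range fun l => algebraMap (MvPolynomial (Fin d) k) (Rl ⧸ Ig) (X l)),
          ← Set.range_comp]
        rfl
      show Ideal.IsMaximal (Ideal.span (Set.range fun l => algebraMap (MvPolynomial (Fin d) k)
          ((Rl ⧸ Ig) ⧸ K.map (algebraMap (MvPolynomial (Fin d) k) (Rl ⧸ Ig))) (X l)))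
      rw [hq']
      exact Ideal.IsMaximal.map_of_surjective_of_ker_le Ideal.Quotient.mk_surjective (by rwa [Ideal.mk_ker])
    · have h1 : (maximalIdeal L).map (Ideal.Quotient.mk KL) = ⊤ := by
        refine top_le_iff.1 (h.ge.trans ?_)
        rw [hmax0, Ideal.map_map, Ideal.map_span _ (Set.range X), Ideal.span_le]
        rintro _ ⟨_, ⟨l, rfl⟩, rfl⟩
        exact Ideal.mem_map_of_mem _ (hπ ▸ Ideal.subset_span ⟨l, rfl⟩)
      have hKm : KL ≤ maximalIdeal L := Ideal.map_le_iff_le_comap.2 (Ideal.span_le.2 (by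
        rintro _ ⟨l, rfl⟩
        show algebraMap (MvPolynomial (Fin d) k) L (X l ^ e) ∈ maximalIdeal L
        rw [map_pow]
        exact Ideal.pow_mem_of_mem _ (hπ ▸ Ideal.subset_span ⟨l, rfl⟩) e (Nat.pos_of_ne_zero he)))
      have h2 := congrArg (Ideal.comap (Ideal.Quotient.mk KL)) h1
      rw [Ideal.comap_map_of_surjective' _ Ideal.Quotient.mk_surjective, Ideal.mk_ker, Ideal.comap_top,
        sup_eq_left.2 hKm] at h2
      exact (maximalIdeal.isMaximal L).ne_top h2
  have h3 : f₂ (Ideal.Quotient.mk _ (Ideal.Quotient.mk Ig z)) = 0 := by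
    show Ideal.Quotient.mk KL (θl z) = 0
    rw [Ideal.Quotient.eq_zero_iff_mem]
    exact hKJ.ge hz
  rw [← map_zero f₂] at h3
  have h4 := Ideal.Quotient.eq_zero_iff_mem.1 (hinj2 h3)
  let ψQ : Rl ⧸ Ig →+* T := Ideal.Quotient.lift Ig ψ fun y hy => by
    refine (Ideal.span_le (I := RingHom.ker ψ)).2 ?_ hy
    rintro _ ⟨j, rfl⟩
    exact hψg j
  show ψQ (Ideal.Quotient.mk Ig z) = 0
  refine (Ideal.map_le_iff_le_comap (K := RingHom.ker ψQ)).2 (Ideal.span_le.2 ?_) h4
  rintro _ ⟨l, rfl⟩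
  show ψ (algebraMap (MvPolynomial (Fin d) k) Rl (X l ^ e)) = 0
  rw [map_pow, map_pow]
  exact hψx l

/-- Approximate relations become exact relations where the smooth model maps to. -/
theorem rel_eq_zero {R'' Λ T : Type*} [CommRing R''] [CommRing Λ] [CommRing T] (θ : R'' →+* Λ) (q : Ideal Λ)
    [q.IsPrime] (ψ : R'' →+* T) (hψu : ∀ u, θ u ∉ q → IsUnit (ψ u)) {m Lf : ℕ} (G : Fin m → R'')
    (F : Fin Lf → R'') (σ : Fin m → R'') (Tm : Fin m → Fin Lf → R'') (S : Fin Lf → R'')
    (c : Fin Lf → Fin m → R'') (hσ : ∀ j, θ (σ j) ∉ q) (hS : ∀ i, θ (S i) ∉ q)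
    (hTm : ∀ j i, θ (Tm j i) = 0) (hrel : ∀ j, ψ (σ j * G j) = ψ (∑ i, Tm j i * F i))
    (hF : ∀ i, ψ (S i * F i) = ψ (∑ j, c i j * G j)) (j : Fin m) : ψ (G j) = 0 := by
  classical
  let S₀ := ∏ i, S i
  let M : Matrix (Fin m) (Fin m) R'' := Matrix.diagonal (fun j => σ j * S₀) -
    Matrix.of fun j l => ∑ i, Tm j i * ((∏ i' ∈ Finset.univ.erase i, S i') * c i l)
  have hdet : θ M.det ∉ q := by
    rw [RingHom.map_det]
    have : θ.mapMatrix M = Matrix.diagonal fun j => θ (σ j) * ∏ i, θ (S i) := by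
      refine Matrix.ext fun j l => ?_
      simp only [M, S₀, RingHom.mapMatrix_apply, Matrix.map_apply, Matrix.sub_apply, Matrix.of_apply,
        map_sub, map_sum, map_mul, hTm, zero_mul, Finset.sum_const_zero, sub_zero]
      rcases eq_or_ne j l with rfl | h
      · simp [map_prod]
      · simp [Matrix.diagonal_apply_ne _ h]
    rw [this, Matrix.det_diagonal, Ideal.IsPrime.prod_mem_iff]
    rintro ⟨j, -, hj⟩
    rcases Ideal.IsPrime.mem_or_mem inferInstance hj with h | h
    · exact hσ j h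
    · obtain ⟨i, -, hi⟩ := Ideal.IsPrime.prod_mem_iff.1 h
      exact hS i hi
  have hFi : ∀ i, ψ S₀ * ψ (F i) =
      ∑ l, ψ ((∏ i' ∈ Finset.univ.erase i, S i') * c i l) * ψ (G l) := fun i => by
    simp only [S₀, ← map_mul, ← map_sum]
    rw [← Finset.mul_prod_erase Finset.univ S (Finset.mem_univ i), show S i * (∏ i' ∈ Finset.univ.erase i, S i') * F i =
      (∏ i' ∈ Finset.univ.erase i, S i') * (S i * F i) by ring, map_mul, hF, ← map_mul, Finset.mul_sum]
    simp only [mul_assoc]
  have hMg : (ψ.mapMatrix M).mulVec (fun l => ψ (G l)) = 0 := by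
    funext j
    have hj : ψ (σ j) * ψ (G j) = ∑ i, ψ (Tm j i) * ψ (F i) := by
      rw [← map_mul, hrel, map_sum]
      simp only [map_mul]
    simp only [Matrix.mulVec, dotProduct, RingHom.mapMatrix_apply, Matrix.map_apply, M, Matrix.sub_apply,
      Matrix.of_apply, Matrix.diagonal_apply, map_sub, sub_mul, Finset.sum_sub_distrib, Pi.zero_apply]
    rw [Finset.sum_eq_single j (fun l _ hl => by rw [if_neg hl.symm, map_zero, zero_mul]) (by simp),
      if_pos rfl, map_mul, sub_eq_zero, mul_comm (ψ (σ j)) (ψ S₀), mul_assoc, hj, Finset.mul_sum]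
    simp only [map_sum, Finset.sum_mul, mul_left_comm (ψ S₀), hFi, Finset.mul_sum, map_mul, ← mul_assoc]
    exact Finset.sum_comm
  have hu2 : IsUnit (ψ.mapMatrix M) :=
    (Matrix.isUnit_iff_isUnit_det _).2 (RingHom.map_det ψ M ▸ hψu _ hdet)
  exact congr_fun (Matrix.mulVec_injective_of_isUnit hu2 (hMg.trans (Matrix.mulVec_zero _).symm)) j

set_option maxHeartbeats 1600000 in
theorem exists_smooth_model {k Λ : Type u} [Field k] (p : ℕ) [Fact p.Prime] [CharP k p] [CommRing Λ]
    [Algebra k Λ] [IsNoetherianRing Λ] (q : Ideal Λ) [q.IsPrime]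
    (L : Type u) [CommRing L] [IsRegularLocalRing L] [Algebra Λ L] [IsLocalization.AtPrime L q]
    [Algebra k L] [IsScalarTower k Λ L]
    (hinj : Function.Injective ((KaehlerDifferential.mapBaseChange ℤ k L).lTensor (ResidueField L)))
    (hinj' : Function.Injective ((KaehlerDifferential.mapBaseChange (⊥ : Subfield k) k L).lTensor
      (ResidueField L)))
    {d : ℕ} [Algebra (MvPolynomial (Fin d) k) Λ] [IsScalarTower k (MvPolynomial (Fin d) k) Λ]
    (hd : ringKrullDim L = d)
    (hπ : Ideal.span (Set.range fun l => algebraMap Λ L (algebraMap (MvPolynomial (Fin d) k) Λ (X l))) =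
      maximalIdeal L)
    {C : Type u} [CommRing C] [Algebra (MvPolynomial (Fin d) k) C]
    [Algebra.FiniteType (MvPolynomial (Fin d) k) C] (φC : C →ₐ[MvPolynomial (Fin d) k] Λ)
    (e : ℕ) (he : 2 ≤ e) {r : ℕ} (a : Fin r → Λ) (ha : ∀ j, a j ∈ q) :
    ∃ (R'' : Type u) (_ : CommRing R'') (_ : Algebra k R'') (_ : Algebra (MvPolynomial (Fin d) k) R'')
      (_ : IsScalarTower k (MvPolynomial (Fin d) k) R'') (θR : R'' →ₐ[MvPolynomial (Fin d) k] Λ),
      Algebra.FinitePresentation k R'' ∧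
      (∀ (i : Fin d) (z : R''), algebraMap (MvPolynomial (Fin d) k) R'' (X i) * z ∈
          Ideal.span (Set.range fun l : {l : Fin d // (l : ℕ) < (i : ℕ)} =>
            algebraMap (MvPolynomial (Fin d) k) R'' (X (l : Fin d)) ^ e) →
        z ∈ Ideal.span (Set.range fun l : {l : Fin d // (l : ℕ) < (i : ℕ)} =>
            algebraMap (MvPolynomial (Fin d) k) R'' (X (l : Fin d)) ^ e)) ∧
      (∀ j, ∃ u ∈ _root_.Smoothing.singularIdeal k R'', θR u = a j) ∧
      (∃ ρ ∈ _root_.Smoothing.singularIdeal k R'', θR ρ ∉ q) ∧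
      ∀ (T : Type u) [CommRing T] (ψ : R'' →+* T),
        (∀ l, ψ (algebraMap (MvPolynomial (Fin d) k) R'' (X l)) ^ e = 0) →
        (∀ u, θR u ∉ q → IsUnit (ψ u)) →
        ∃ gC : C →+* T,
          (∀ z, gC (algebraMap (MvPolynomial (Fin d) k) C z) = ψ (algebraMap (MvPolynomial (Fin d) k) R'' z)) ∧
          ∀ (Ω : Type u) [CommRing Ω] (χ : T →+* Ω) (η : L →+* Ω),
            (∀ u, χ (ψ u) = η (algebraMap Λ L (θR u))) →
            (∀ l, η (algebraMap Λ L (algebraMap (MvPolynomial (Fin d) k) Λ (X l))) ^ e = 0) →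
            ∀ c, χ (gC c) = η (algebraMap Λ L (φC c)) := by
  classical
  let πΛ : Fin d → Λ := fun l => algebraMap (MvPolynomial (Fin d) k) Λ (X l)
  let πL : Fin d → L := fun l => algebraMap Λ L (πΛ l)
  have hπm : ∀ l, πL l ∈ maximalIdeal L := fun l => hπ ▸ Ideal.subset_span ⟨l, rfl⟩
  let Je : Ideal L := Ideal.span (Set.range fun l => πL l ^ e)
  have hJe : Je ≤ maximalIdeal L := Ideal.span_le.2 (by
    rintro _ ⟨l, rfl⟩; exact Ideal.pow_mem_of_mem _ (hπm l) e (by omega))
  have hJe2 : Je ≤ maximalIdeal L ^ 2 := Ideal.span_le.2 (by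
    rintro _ ⟨l, rfl⟩; exact Ideal.pow_le_pow_right he (Ideal.pow_mem_pow (hπm l) e))
  -- the Artinian quotient
  obtain ⟨N, hN⟩ : ∃ N, maximalIdeal L ^ N ≤ Je := by
    refine Ideal.exists_pow_le_of_le_radical_of_fg ?_ (IsNoetherian.noetherian _)
    rw [← hπ, Ideal.span_le]
    rintro _ ⟨l, rfl⟩
    exact ⟨e, Ideal.subset_span ⟨l, rfl⟩⟩
  have : Nontrivial (L ⧸ Je) := Ideal.Quotient.nontrivial_iff.2 fun h =>
    (maximalIdeal.isMaximal L).ne_top (top_le_iff.1 (h.ge.trans hJe))
  have : IsLocalRing (L ⧸ Je) := IsLocalRing.of_surjective' (Ideal.Quotient.mk Je) Ideal.Quotient.mk_surjective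
  have hmL' : maximalIdeal (L ⧸ Je) = (maximalIdeal L).map (Ideal.Quotient.mk Je) :=
    (map_maximalIdeal_of_surjective _ Ideal.Quotient.mk_surjective).symm
  have hN' : maximalIdeal (L ⧸ Je) ^ N = ⊥ := by
    rw [hmL', ← Ideal.map_pow, Ideal.map_eq_bot_iff_le_ker, Ideal.mk_ker]; exact hN
  let π' : Fin d → L ⧸ Je := fun l => Ideal.Quotient.mk Je (πL l)
  have hπ' : Ideal.span (Set.range π') = maximalIdeal (L ⧸ Je) := by
    rw [hmL', ← hπ, Ideal.map_span, ← Set.range_comp]; rfl
  let ι : Λ →ₐ[k] L ⧸ Je := (Ideal.Quotient.mkₐ k Je).comp (IsScalarTower.toAlgHom k Λ L)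
  have hgen : ∀ c : ResidueField (L ⧸ Je), ∃ a s : Λ, residue (L ⧸ Je) (ι s) ≠ 0 ∧
      c * residue (L ⧸ Je) (ι s) = residue (L ⧸ Je) (ι a) := by
    intro c
    obtain ⟨c, rfl⟩ := IsLocalRing.residue_surjective c
    obtain ⟨c, rfl⟩ := Ideal.Quotient.mk_surjective c
    obtain ⟨⟨a, s⟩, h⟩ := IsLocalization.surj q.primeCompl c
    refine ⟨a, s, fun h0 => ?_, ?_⟩
    · exact (mem_maximalIdeal _).1 ((residue_eq_zero_iff _).1 h0)
        ((IsLocalization.map_units L s).map (Ideal.Quotient.mk Je))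
    · show residue _ (Ideal.Quotient.mk Je c) * residue _ (Ideal.Quotient.mk Je (algebraMap Λ L s)) =
        residue _ (Ideal.Quotient.mk Je (algebraMap Λ L a))
      rw [← map_mul, ← map_mul, h]
  obtain ⟨D⟩ := Coefficient.exists_datum p ι hgen
    (finite_ker hinj' (ResidueField (L ⧸ Je)) (IsLocalRing.residue_surjective.comp Ideal.Quotient.mk_surjective)) hN'
  -- the elements to be captured
  obtain ⟨sC, hsC⟩ := Algebra.FiniteType.out (R := MvPolynomial (Fin d) k) (A := C)
  let E₀ : Finset Λ := sC.image φC ∪ Finset.univ.image a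
  obtain ⟨T₀, F, R₀, -, hR₀eq, hER, hTR, hinv, hdec, hloc⟩ :=
    Coefficient.exists_subring ι hN' D π' hπ' (E₀.image ι) ∅
  have hπR : ∀ l, π' l ∈ R₀ := fun l => (hR₀eq.ge (Subring.subset_closure (Or.inr ⟨l, rfl⟩)) : π' l ∈ R₀.toSubring)
  let W : Finset Λ := T₀ ∪ E₀
  let w : Fin W.card → Λ := fun i => (W.equivFin.symm i : Λ)
  have hW : ∀ z ∈ W, ∃ i, w i = z := fun z hz =>
    ⟨W.equivFin ⟨z, hz⟩, by show ((W.equivFin.symm _ : W) : Λ) = z; rw [Equiv.symm_apply_apply]⟩
  let θ : MvPolynomial (Fin d ⊕ Fin W.card) k →ₐ[k] Λ := aeval (Sum.elim πΛ w)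
  have hθx : ∀ l, θ (X (Sum.inl l)) = πΛ l := fun l => aeval_X _ _
  have hθw : ∀ i, θ (X (Sum.inr i)) = w i := fun i => aeval_X _ _
  let P : Ideal (MvPolynomial (Fin d ⊕ Fin W.card) k) := q.comap θ
  have hu : ∀ z, z ∉ P → IsUnit (algebraMap Λ L (θ z)) := fun z hz =>
    IsLocalization.map_units L (⟨θ z, hz⟩ : q.primeCompl)
  let θL : MvPolynomial (Fin d ⊕ Fin W.card) k →ₐ[k] L := (IsScalarTower.toAlgHom k Λ L).comp θ
  have hP : P = (maximalIdeal L).comap θL := by
    ext z
    exact (IsLocalization.AtPrime.to_map_mem_maximal_iff L q (θ z)).symm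
  obtain ⟨Rl, _, _, _, _⟩ : ∃ (Rl : Type u) (_ : CommRing Rl) (_ : IsLocalRing Rl)
      (_ : Algebra (MvPolynomial (Fin d ⊕ Fin W.card) k) Rl), IsLocalization.AtPrime Rl P :=
    ⟨Localization.AtPrime P, inferInstance, inferInstance, inferInstance, inferInstance⟩
  let alg := algebraMap (MvPolynomial (Fin d ⊕ Fin W.card) k) Rl
  let θ' : MvPolynomial (Fin d ⊕ Fin W.card) k →ₐ[k] L ⧸ Je := (Ideal.Quotient.mkₐ k Je).comp θL
  let θl : Rl →+* L := IsLocalization.lift (M := P.primeCompl) (S := Rl)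
    (g := θL.toRingHom) fun s => hu s s.2
  have hθl : ∀ z, θl (alg z) = algebraMap Λ L (θ z) := IsLocalization.lift_eq _
  let χ : Rl →+* L ⧸ Je := (Ideal.Quotient.mk Je).comp θl
  have hχ : ∀ z, χ (alg z) = θ' z := fun z => congrArg (Ideal.Quotient.mk Je) (hθl z)
  -- the image
  have hθR : ∀ z, θ' z ∈ R₀ := by
    intro z
    induction z using MvPolynomial.induction_on with
    | C c => rw [← MvPolynomial.algebraMap_eq, AlgHom.commutes]; exact R₀.algebraMap_mem c
    | add u v hu hv => rw [map_add]; exact add_mem hu hv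
    | mul_X u v hu =>
      rw [map_mul]
      refine mul_mem hu ?_
      rcases v with l | i
      · show ι (θ (X (Sum.inl l))) ∈ R₀
        rw [hθx]
        exact hπR l
      · show ι (θ (X (Sum.inr i))) ∈ R₀
        rw [hθw]
        rcases Finset.mem_union.1 (W.equivFin.symm i).2 with h | h
        · exact hTR ⟨_, h, rfl⟩
        · exact hER (Finset.mem_image.2 ⟨_, h, rfl⟩)
  have hadj : ∀ x ∈ Algebra.adjoin k (ι '' (T₀ : Set Λ) ∪ Set.range π'), ∃ z, θ' z = x := by
    intro x hx
    induction hx using Algebra.adjoin_induction with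
    | mem x hx =>
      rcases hx with ⟨t, ht, rfl⟩ | ⟨l, rfl⟩
      · obtain ⟨i, hi⟩ := hW t (Finset.mem_union_left _ ht)
        exact ⟨X (Sum.inr i), by show ι (θ _) = ι t; rw [hθw, hi]⟩
      · exact ⟨X (Sum.inl l), by show ι (θ _) = _; rw [hθx]; rfl⟩
    | algebraMap c => exact ⟨MvPolynomial.C c, θ'.commutes c⟩
    | add x y _ _ hx hy => obtain ⟨a, rfl⟩ := hx; obtain ⟨b, rfl⟩ := hy; exact ⟨a + b, map_add _ _ _⟩
    | mul x y _ _ hx hy => obtain ⟨a, rfl⟩ := hx; obtain ⟨b, rfl⟩ := hy; exact ⟨a * b, map_mul _ _ _⟩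
  have hR₀frac : ∀ x ∈ R₀, ∃ z s, s ∉ P ∧ x * θ' s = θ' z := by
    intro x hx
    obtain ⟨a, ha, s, hs, hsu, hxs⟩ := hloc hx
    obtain ⟨za, rfl⟩ := hadj a ha
    obtain ⟨zs, rfl⟩ := hadj s hs
    refine ⟨za, zs, fun h => ?_, hxs⟩
    refine (mem_maximalIdeal _).1 ?_ hsu
    rw [hmL']
    exact Ideal.mem_map_of_mem _ (hP.le h : θL zs ∈ maximalIdeal L)
  -- the relations
  let G : Set (MvPolynomial (Fin d ⊕ Fin W.card) k) := {z | θ' z = 0}
  have hG2 : ∀ z ∈ G, θL z ∈ maximalIdeal L ^ 2 := fun z hz =>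
    hJe2 (Ideal.Quotient.eq_zero_iff_mem.1 hz)
  let xP : Fin d → MvPolynomial (Fin d ⊕ Fin W.card) k := fun l => X (Sum.inl l)
  have hgenP : P.map alg ≤ (Ideal.span (Set.range xP ∪ G)).map alg := by
    refine Ideal.map_le_iff_le_comap.2 fun z hz => ?_
    have hzm : θ' z ∈ maximalIdeal (L ⧸ Je) := hmL' ▸ Ideal.mem_map_of_mem _ (hP.le hz : θL z ∈ _)
    obtain ⟨-, c, hc, hzc⟩ := hdec (θ' z) (hθR z)
    rw [(residue_eq_zero_iff _).2 hzm, map_zero, zero_add] at hzc
    choose za zs hzs hzas using fun l => hR₀frac (c l) (hc l)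
    let S := ∏ l, zs l
    have hS : S ∉ P := prod_mem (S := P.primeCompl) fun l _ => hzs l
    have h1 : S * z - ∑ l, xP l * (za l * ∏ l' ∈ Finset.univ.erase l, zs l') ∈ G := by
      show θ' _ = 0
      rw [map_sub, map_sum, map_mul, hzc, Finset.mul_sum, ← Finset.sum_sub_distrib]
      refine Finset.sum_eq_zero fun l _ => ?_
      rw [map_mul, map_mul, ← hzas l, show θ' (xP l) = π' l by show ι (θ _) = _; rw [hθx]; rfl]
      simp only [S]
      rw [← Finset.mul_prod_erase Finset.univ zs (Finset.mem_univ l), map_mul]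
      ring
    rw [Ideal.mem_comap, ← Ideal.unit_mul_mem_iff_mem _ (IsLocalization.map_units Rl (⟨S, hS⟩ : P.primeCompl)),
      ← map_mul]
    refine Ideal.mem_map_of_mem _ ?_
    show S * z ∈ _
    rw [← sub_add_cancel (S * z) (∑ l, xP l * (za l * ∏ l' ∈ Finset.univ.erase l, zs l'))]
    exact add_mem (Ideal.subset_span (Or.inr h1))
      (sum_mem fun l _ => Ideal.mul_mem_right _ _ (Ideal.subset_span (Or.inl ⟨l, rfl⟩)))
  have hdn : (maximalIdeal L).spanFinrank = d := by
    have h := IsRegularLocalRing.spanFinrank_maximalIdeal (R := L)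
    rw [hd] at h
    exact_mod_cast h
  have hxL : Ideal.span (Set.range fun l => θL (xP l)) = maximalIdeal L := by
    rw [← hπ]; congr 1; congr 1; funext l
    show algebraMap Λ L (θ _) = _
    rw [hθx]
  obtain ⟨m, g, hgG, ⟨cols, hcols⟩, hmaxR, hQreg, hQdim, hht⟩ :=
    Conormal.exists_relations (R := Rl) p P θL hP hinj xP hdn hxL G hG2 hgenP
  obtain ⟨Lf, f, hf⟩ := Submodule.fg_iff_exists_fin_generating_family.1 (IsNoetherian.noetherian P)
  -- a power of the prime lies in the relations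
  let J₀ : Ideal (MvPolynomial (Fin d ⊕ Fin W.card) k) :=
    Ideal.span (Set.range (fun l => xP l ^ e) ∪ Set.range g)
  obtain ⟨N₂, hN₂⟩ : ∃ N₂, maximalIdeal Rl ^ N₂ ≤ J₀.map alg := by
    have : IsNoetherianRing Rl := IsLocalization.isNoetherianRing P.primeCompl Rl inferInstance
    refine Ideal.exists_pow_le_of_le_radical_of_fg ?_ (IsNoetherian.noetherian _)
    rw [hmaxR, Ideal.map_span, Ideal.span_le]
    rintro _ ⟨_, (⟨l, rfl⟩ | ⟨j, rfl⟩), rfl⟩
    · exact ⟨e, by rw [← map_pow]; exact Ideal.mem_map_of_mem _ (Ideal.subset_span (Or.inl ⟨l, rfl⟩))⟩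
    · exact Ideal.le_radical (Ideal.mem_map_of_mem _ (Ideal.subset_span (Or.inr ⟨j, rfl⟩)))
  have hfrel : ∀ i, ∃ (S : MvPolynomial (Fin d ⊕ Fin W.card) k) (c : Fin m → _) (b : Fin d → _),
      S ∉ P ∧ S * f i ^ (N₂ + 1) = (∑ j, c j * g j) + ∑ l, b l * xP l ^ e := by
    intro i
    have h1 : alg (f i ^ (N₂ + 1)) ∈ J₀.map alg := by
      refine hN₂ (Ideal.pow_le_pow_right (Nat.le_succ N₂) ?_)
      rw [map_pow]
      exact Ideal.pow_mem_pow ((IsLocalization.AtPrime.to_map_mem_maximal_iff Rl P _).2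
        (hf.le (Submodule.subset_span ⟨i, rfl⟩))) _
    obtain ⟨S, hS, h2⟩ := (IsLocalization.algebraMap_mem_map_algebraMap_iff P.primeCompl Rl _ _).1 h1
    simp only [J₀, Ideal.span_union, Submodule.mem_sup] at h2
    obtain ⟨u, hu, v, hv, huv⟩ := h2
    obtain ⟨b, rfl⟩ := (Submodule.mem_span_range_iff_exists_fun _).1 hu
    obtain ⟨c, rfl⟩ := (Submodule.mem_span_range_iff_exists_fun _).1 hv
    exact ⟨S, c, b, hS, by rw [← huv, add_comm]; simp [smul_eq_mul]⟩
  choose Sf cf bf hSf hfeq using hfrel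
  have hgs : ∀ j, ∃ (s : Λ) (ν : Fin d → Λ), s ∉ q ∧ s * θ (g j) = ∑ l, ν l * θ (xP l) ^ e := by
    intro j
    have h1 : algebraMap Λ L (θ (g j)) ∈
        (Ideal.span (Set.range fun l => πΛ l ^ e)).map (algebraMap Λ L) := by
      have h0 : θL (g j) ∈ Je := Ideal.Quotient.eq_zero_iff_mem.1 (hgG j)
      rw [Ideal.map_span, ← Set.range_comp]
      rw [show (⇑(algebraMap Λ L) ∘ fun l => πΛ l ^ e) = fun l => πL l ^ e from
        funext fun l => map_pow _ _ _]
      exact h0
    obtain ⟨s, hs, h2⟩ := (IsLocalization.algebraMap_mem_map_algebraMap_iff q.primeCompl L _ _).1 h1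
    obtain ⟨ν, hν⟩ := (Submodule.mem_span_range_iff_exists_fun _).1 h2
    exact ⟨s, ν, hs, by rw [← hν]; simp [smul_eq_mul, hθx, xP]⟩
  choose s ν hs hrel using hgs
  have hgq : ∀ j, θ (g j) ∈ q := fun j =>
    (IsLocalization.AtPrime.to_map_mem_maximal_iff L q _).1 (Ideal.pow_le_self two_ne_zero (hG2 _ (hgG j)))
  have hxq : ∀ l, θ (xP l) ∈ q := fun l =>
    (IsLocalization.AtPrime.to_map_mem_maximal_iff L q _).1 (hxL ▸ Ideal.subset_span ⟨l, rfl⟩)
  obtain ⟨R'', _, _, emb, θR, σ, Tm, μ, hfp, hθemb, heq, hσ, hTm, hsing, hρ, hnzd⟩ :=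
    Model.exists_model q θ (Sum.inl : Fin d → Fin d ⊕ Fin W.card) Sum.inl_injective g f hf hxq hgq cols
      hcols hht e (N₂ + 1) he (Nat.succ_pos _) s hs ν hrel
  let _ : Algebra (MvPolynomial (Fin d) k) R'' := (emb.comp (rename Sum.inl)).toRingHom.toAlgebra
  have : IsScalarTower k (MvPolynomial (Fin d) k) R'' :=
    IsScalarTower.of_algebraMap_eq fun c => ((emb.comp (rename Sum.inl)).commutes c).symm
  have hX : ∀ l, algebraMap (MvPolynomial (Fin d) k) R'' (X l) = emb (xP l) := fun l => by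
    show emb (rename Sum.inl (X l)) = _
    rw [rename_X]
  have hθren : ∀ z, θ (rename Sum.inl z) = algebraMap (MvPolynomial (Fin d) k) Λ z := by
    intro z
    suffices θ.comp (rename Sum.inl) = IsScalarTower.toAlgHom k (MvPolynomial (Fin d) k) Λ from
      DFunLike.congr_fun this z
    refine MvPolynomial.algHom_ext fun l => ?_
    show θ (rename Sum.inl (X l)) = algebraMap (MvPolynomial (Fin d) k) Λ (X l)
    rw [rename_X, hθx]
  let θR' : R'' →ₐ[MvPolynomial (Fin d) k] Λ :=
    { θR.toRingHom with commutes' := fun z => (hθemb _).trans (hθren z) }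
  refine ⟨R'', inferInstance, inferInstance, inferInstance, inferInstance, θR', hfp, ?_, fun j => ?_, hρ,
    fun T _ ψ hψx hψu => ?_⟩
  · simp only [hX]
    exact hnzd
  · obtain ⟨i, hi⟩ := hW (a j) (Finset.mem_union_right _
      (Finset.mem_union_right _ (Finset.mem_image_of_mem a (Finset.mem_univ j))))
    refine ⟨emb (X (Sum.inr i)), hsing _ ?_, ?_⟩
    · rw [hθw, hi]; exact ha j
    · show θR (emb _) = _
      rw [hθemb, hθw, hi]
  -- maps into `T`
  have hψe : ∀ z, z ∉ P → IsUnit (ψ (emb z)) := fun z hz => hψu _ (by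
    show θR (emb z) ∉ q
    rw [hθemb]; exact hz)
  have hψxP : ∀ l, ψ (emb (xP l)) ^ e = 0 := fun l => by rw [← hX]; exact hψx l
  have hψg : ∀ j, ψ (emb (g j)) = 0 := by
    refine rel_eq_zero θR.toRingHom q ψ hψu (fun j => emb (g j)) (fun i => emb (f i) ^ (N₂ + 1)) σ Tm
      (fun i => emb (Sf i)) (fun i j => emb (cf i j)) hσ
      (fun i => ?_) hTm (fun j => ?_) fun i => ?_
    · show θR (emb (Sf i)) ∉ q
      rw [hθemb]
      exact hSf i
    · rw [heq, map_add, map_sum, Finset.sum_eq_zero (fun l _ => ?_), zero_add]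
      rw [map_mul, map_pow, hψxP l, mul_zero]
    · rw [← map_pow, ← map_mul, hfeq, map_add, map_add, map_sum emb, map_sum emb, map_sum ψ (fun l => emb (_ * _ ^ e)),
        Finset.sum_eq_zero (s := Finset.univ) (f := fun l => ψ (emb (bf i l * xP l ^ e))) (fun l _ => ?_), add_zero]
      · simp only [map_mul]
      · rw [map_mul, map_mul, map_pow, map_pow, hψxP l, mul_zero]
  let ψT : Rl →+* T := IsLocalization.lift (M := P.primeCompl) (S := Rl) (g := ψ.comp emb.toRingHom)
    fun z => hψe z z.2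
  have hψT : ∀ z, ψT (alg z) = ψ (emb z) := IsLocalization.lift_eq _
  -- the kernel of `χ`
  have hker : RingHom.ker χ ≤ RingHom.ker ψT := by
    let _ : Algebra (MvPolynomial (Fin d) k) Rl := (alg.comp (rename Sum.inl).toRingHom).toAlgebra
    let _ : Algebra (MvPolynomial (Fin d) k) L :=
      ((algebraMap Λ L).comp (algebraMap (MvPolynomial (Fin d) k) Λ)).toAlgebra
    have hXl : ∀ l, algebraMap (MvPolynomial (Fin d) k) Rl (X l) = alg (xP l) := fun l => by
      show alg (rename Sum.inl (X l)) = _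
      rw [rename_X]
    obtain ⟨θla, hθla⟩ : ∃ θla : Rl →ₐ[MvPolynomial (Fin d) k] L, ∀ z, θla z = θl z :=
      ⟨{ θl with
        commutes' := fun z => by
          show θl (alg (rename Sum.inl z)) = algebraMap Λ L (algebraMap _ Λ z)
          rw [hθl, hθren] }, fun _ => rfl⟩
    have hXL : ∀ l, algebraMap (MvPolynomial (Fin d) k) L (X l) = πL l := fun l => rfl
    have hJeq : Ideal.span (Set.range fun l => algebraMap (MvPolynomial (Fin d) k) L (X l) ^ e) = Je := by
      simp only [hXL]; rfl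
    intro z hz
    have hz1 : Ideal.Quotient.mk Je (θl z) = 0 := RingHom.mem_ker.1 hz
    refine RingHom.mem_ker.2 (ker_le (e := e) (by omega) hd ?_ θla (fun j => alg (g j)) hQreg hQdim ?_
      (fun j => ?_) ψT (fun j => ?_) (fun l => ?_) z ?_)
    · simp only [hXL]; exact hπ
    · rw [hmaxR, Ideal.map_span, Set.image_union, ← Set.range_comp, ← Set.range_comp]
      simp only [Function.comp_def, hXl]
      rfl
    · rw [hθla, hJeq, hθl]
      exact Ideal.Quotient.eq_zero_iff_mem.1 (hgG j)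
    · rw [hψT]; exact hψg j
    · rw [hXl, hψT]
      exact hψxP l
    · rw [hθla, hJeq]
      exact Ideal.Quotient.eq_zero_iff_mem.1 hz1
  -- lift `C`
  let φ' : C →+* L ⧸ Je := (Ideal.Quotient.mk Je).comp ((algebraMap Λ L).comp φC.toRingHom)
  have hφC : ∀ c, φ' c ∈ χ.range := by
    intro c
    have hc : c ∈ Algebra.adjoin (MvPolynomial (Fin d) k) (sC : Set C) := hsC ▸ Algebra.mem_top
    induction hc using Algebra.adjoin_induction with
    | mem x hx =>
      obtain ⟨i, hi⟩ := hW (φC x) (Finset.mem_union_right _ (Finset.mem_union_left _ (Finset.mem_image_of_mem _ hx)))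
      exact ⟨alg (X (Sum.inr i)), by rw [hχ]; show ι (θ _) = ι (φC x); rw [hθw, hi]⟩
    | algebraMap z =>
      exact ⟨alg (rename Sum.inl z), by
        rw [hχ]; show ι (θ _) = ι (φC (algebraMap _ C z)); rw [hθren, AlgHom.commutes]⟩
    | add x y _ _ hx hy => rw [map_add]; exact add_mem hx hy
    | mul x y _ _ hx hy => rw [map_mul]; exact mul_mem hx hy
  let ψr : χ.range →+* T := χ.rangeRestrict.liftOfSurjective χ.rangeRestrict_surjective
    ⟨ψT, fun z hz => hker (congrArg Subtype.val hz)⟩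
  have hψr : ∀ z, ψr (χ.rangeRestrict z) = ψT z := RingHom.liftOfSurjective_comp_apply _ _ _
  let gC : C →+* T := ψr.comp (φ'.codRestrict χ.range hφC)
  refine ⟨gC, fun z => ?_, fun Ω _ χ' η hχ' hη c => ?_⟩
  · have : φ'.codRestrict χ.range hφC (algebraMap _ C z) = χ.rangeRestrict (alg (rename Sum.inl z)) := by
      refine Subtype.ext ?_
      show φ' (algebraMap _ C z) = χ (alg (rename Sum.inl z))
      rw [hχ]
      show ι (φC (algebraMap _ C z)) = ι (θ _)
      rw [hθren, AlgHom.commutes]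
    show ψr _ = _
    rw [this, hψr, hψT]
    rfl
  · let η' : L ⧸ Je →+* Ω := Ideal.Quotient.lift Je η fun z hz => by
      refine (Ideal.span_le (I := RingHom.ker η)).2 ?_ hz
      rintro _ ⟨l, rfl⟩
      show η (πL l ^ e) = 0
      rw [map_pow]
      exact hη l
    have hcomp : ∀ z, χ' (ψT z) = η' (χ z) := fun z => by
      suffices χ'.comp ψT = η'.comp χ from DFunLike.congr_fun this z
      refine IsLocalization.ringHom_ext P.primeCompl (RingHom.ext fun z => ?_)
      show χ' (ψT (alg z)) = η' (χ (alg z))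
      rw [hψT, hχ', hχ]
      show η (algebraMap Λ L (θR (emb z))) = _
      rw [hθemb]
      rfl
    obtain ⟨z, hz⟩ := hφC c
    have : φ'.codRestrict χ.range hφC c = χ.rangeRestrict z := Subtype.ext hz.symm
    show χ' (ψr _) = _
    rw [this, hψr, hcomp, hz]
    rfl

end Groth.Agent.Lib.Smoothing.Char.Core
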