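import Groth.Agent.Lib.Smoothing.Char.Coefficient
import Groth.Agent.Lib.Smoothing.Char.Core
import Mathlib.RingTheory.Kaehler.JacobiZariski
import Mathlib.RingTheory.TensorProduct.MvPolynomial
import Mathlib.RingTheory.RingHom.Flat
import Mathlib.RingTheory.EssentialFiniteness
import Mathlib.RingTheory.HopkinsLevitzki

/-!
# Small Artinian subalgebras with flat inclusion
-/

universe u

open IsLocalRing MvPolynomial
open scoped TensorProduct

namespace Groth.Agent.Lib.Smoothing.Char.Artinian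

/-- Polynomials over an extension field are flat over polynomials over the subfield. -/
theorem flat_polynomial (F K : Type u) [Field F] [Field K] [Algebra F K] (d : ℕ) :
    letI := algebraMvPolynomial (R := F) (S := K) (σ := Fin d)
    Module.Flat (MvPolynomial (Fin d) F) (MvPolynomial (Fin d) K) := by
  letI := algebraMvPolynomial (R := F) (S := K) (σ := Fin d)
  have : Algebra.IsPushout F (MvPolynomial (Fin d) F) K (MvPolynomial (Fin d) K) := inferInstance
  exact Module.Flat.of_linearEquiv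
    (Algebra.IsPushout.equiv F (MvPolynomial (Fin d) F) K (MvPolynomial (Fin d) K)).toLinearEquiv.symm

theorem exists_subalgebra {k Λ : Type u} [Field k] (p : ℕ) [Fact p.Prime]
    [CharP k p] [CommRing Λ] [Algebra k Λ] [IsArtinianRing Λ] [IsLocalRing Λ]
    (hker : Module.Finite (ResidueField Λ)
      (LinearMap.ker (KaehlerDifferential.mapBaseChange (⊥ : Subfield k) k (ResidueField Λ))))
    (E : Finset Λ) :
    ∃ (A : Subalgebra k Λ) (_ : IsLocalRing A), (↑E : Set Λ) ⊆ A ∧ IsArtinianRing A ∧ Module.Flat A Λ ∧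
      Algebra.EssFiniteType k A ∧
      (maximalIdeal A).map (algebraMap A Λ) = maximalIdeal Λ := by
  classical
  let K := ResidueField Λ
  obtain ⟨N, hN⟩ : ∃ N, maximalIdeal Λ ^ N = ⊥ :=
    ((isArtinianRing_iff_isNilpotent_maximalIdeal Λ).1 inferInstance).imp fun n h => h
  obtain ⟨D⟩ := Coefficient.exists_datum p (AlgHom.id k Λ)
    (fun c => by
      obtain ⟨a, rfl⟩ := residue_surjective c
      exact ⟨a, 1, by simp, by simp⟩) hker hN
  obtain ⟨d, π, hπ⟩ := Submodule.fg_iff_exists_fin_generating_family.1 (IsNoetherian.noetherian (maximalIdeal Λ))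
  let θ : MvPolynomial (Fin d) K →+* Λ := eval₂Hom D.σ π
  have hsurj : Function.Surjective θ := by
    intro z
    obtain ⟨_, F, R₀, -, hR₀, hz, -⟩ := Coefficient.exists_subring (AlgHom.id k Λ) hN D π hπ {z} ∅
    have h1 : z ∈ R₀.toSubring := hz (Finset.mem_singleton_self z)
    rw [hR₀] at h1
    refine (Subring.closure_le (t := θ.range)).2 ?_ h1
    rintro _ (⟨c, -, rfl⟩ | ⟨l, rfl⟩)
    · exact ⟨C c, eval₂Hom_C _ _ _⟩
    · exact ⟨X l, eval₂Hom_X' _ _ _⟩
  obtain ⟨g, hg⟩ : (RingHom.ker θ).FG := IsNoetherian.noetherian _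
  let Cf : Finset K := g.biUnion fun q => q.support.image fun m => coeff m q
  obtain ⟨T₀, F, R₀, hCF, hR₀, hE, hT, hinv, hdec, hloc⟩ :=
    Coefficient.exists_subring (AlgHom.id k Λ) hN D π hπ E Cf
  letI := algebraMvPolynomial (R := F) (S := K) (σ := Fin d)
  let ψ : MvPolynomial (Fin d) F →+* MvPolynomial (Fin d) K := map (algebraMap F K)
  let J : Ideal (MvPolynomial (Fin d) F) := RingHom.ker (θ.comp ψ)
  have hJ : J.map (algebraMap (MvPolynomial (Fin d) F) (MvPolynomial (Fin d) K)) = RingHom.ker θ := by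
    refine le_antisymm (Ideal.map_le_iff_le_comap.2 fun z hz => hz) ?_
    rw [← hg, Submodule.span_le]
    intro q hq
    have hrange : q ∈ Set.range (map (σ := Fin d) (algebraMap F K)) := by
      rw [MvPolynomial.mem_range_map_iff_coeffs_subset]
      intro c hc
      obtain ⟨m, hm, rfl⟩ := MvPolynomial.mem_coeffs_iff.1 hc
      exact ⟨⟨_, hCF (Finset.mem_biUnion.2 ⟨q, hq, Finset.mem_image_of_mem _ hm⟩)⟩, rfl⟩
    obtain ⟨q₀, rfl⟩ := hrange
    exact Ideal.mem_map_of_mem (algebraMap (MvPolynomial (Fin d) F) (MvPolynomial (Fin d) K))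
      (x := q₀) (hg.le (Submodule.subset_span hq))
  have hψR : ∀ z, θ (ψ z) ∈ R₀ := fun z => by
    induction z using MvPolynomial.induction_on with
    | C c =>
      show θ (map (algebraMap F K) (C c)) ∈ R₀.toSubring
      rw [map_C, eval₂Hom_C, hR₀]
      exact Subring.subset_closure (Or.inl ⟨_, c.2, rfl⟩)
    | add u v hu hv => rw [map_add, map_add]; exact add_mem hu hv
    | mul_X u l hu =>
      rw [map_mul, map_mul]
      refine mul_mem hu (show θ (map (algebraMap F K) (X l)) ∈ R₀.toSubring from ?_)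
      rw [map_X, eval₂Hom_X', hR₀]
      exact Subring.subset_closure (Or.inr ⟨l, rfl⟩)
  let f₁ : MvPolynomial (Fin d) F →+* R₀ := (θ.comp ψ).codRestrict R₀ hψR
  have hf₁ : Function.Surjective f₁ := by
    intro z
    have h1 : (z : Λ) ∈ R₀.toSubring := z.2
    rw [hR₀] at h1
    obtain ⟨w, hw⟩ : (z : Λ) ∈ (θ.comp ψ).range := by
      refine (Subring.closure_le (t := (θ.comp ψ).range)).2 ?_ h1
      rintro _ (⟨c, hc, rfl⟩ | ⟨l, rfl⟩)
      · exact ⟨C ⟨c, hc⟩, by
          show θ (map (algebraMap F K) (C ⟨c, hc⟩)) = _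
          rw [map_C, eval₂Hom_C]; rfl⟩
      · exact ⟨X l, by
          show θ (map (algebraMap F K) (X l)) = _
          rw [map_X, eval₂Hom_X']⟩
    exact ⟨w, Subtype.ext hw⟩
  have hker₁ : RingHom.ker f₁ = J := by
    ext z
    simp only [RingHom.mem_ker, J]
    exact ⟨fun h => congrArg Subtype.val h, fun h => Subtype.ext h⟩
  have hflat : Module.Flat R₀ Λ := by
    have := flat_polynomial F K d
    have hq := Core.flat_quotient (S := MvPolynomial (Fin d) K) J
    have hq' : (algebraMap (MvPolynomial (Fin d) F ⧸ J) (MvPolynomial (Fin d) K ⧸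
        J.map (algebraMap (MvPolynomial (Fin d) F) (MvPolynomial (Fin d) K)))).Flat :=
      @RingHom.flat_algebraMap_iff (MvPolynomial (Fin d) F ⧸ J) (MvPolynomial (Fin d) K ⧸
        J.map (algebraMap (MvPolynomial (Fin d) F) (MvPolynomial (Fin d) K))) _ _ _ |>.2 hq
    refine RingHom.flat_algebraMap_iff.1 ?_
    let e₁ : (MvPolynomial (Fin d) F ⧸ J) ≃+* R₀ :=
      (Ideal.quotEquivOfEq hker₁.symm).trans (RingHom.quotientKerEquivOfSurjective hf₁)
    let e₂ : (MvPolynomial (Fin d) K ⧸ J.map (algebraMap (MvPolynomial (Fin d) F) (MvPolynomial (Fin d) K))) ≃+* Λ :=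
      (Ideal.quotEquivOfEq hJ).trans (RingHom.quotientKerEquivOfSurjective hsurj)
    have h := (RingHom.Flat.of_bijective (f := e₁.symm.toRingHom) e₁.symm.bijective).comp
      (hq'.comp (RingHom.Flat.of_bijective (f := e₂.toRingHom) e₂.bijective))
    convert h using 1
    refine RingHom.ext fun z => ?_
    obtain ⟨w, rfl⟩ := e₁.surjective z
    obtain ⟨w, rfl⟩ := Ideal.Quotient.mk_surjective w
    show (e₁ (Ideal.Quotient.mk J w) : Λ) = _
    simp only [RingHom.comp_apply, RingEquiv.toRingHom_eq_coe, RingEquiv.coe_toRingHom, RingEquiv.symm_apply_apply]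
    rfl
  -- the local structure
  have hiff : ∀ z : R₀, IsUnit z ↔ IsUnit (z : Λ) := fun z => by
    refine ⟨fun h => h.map R₀.val, fun h => ?_⟩
    obtain ⟨r', hr', hrr⟩ := hinv _ z.2 h
    exact IsUnit.of_mul_eq_one (⟨r', hr'⟩ : R₀) (Subtype.ext hrr)
  have hlocR : IsLocalRing R₀ := IsLocalRing.of_nonunits_add fun x y hx hy h =>
    IsLocalRing.nonunits_add (fun h' => hx ((hiff x).2 h')) (fun h' => hy ((hiff y).2 h')) ((hiff _).1 h)
  have hm : ∀ z : R₀, z ∈ maximalIdeal R₀ ↔ (z : Λ) ∈ maximalIdeal Λ := fun z =>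
    (mem_maximalIdeal z).trans ((not_congr (hiff z)).trans (mem_maximalIdeal _).symm)
  have hπR : ∀ l, π l ∈ R₀ := fun l => (hR₀.ge (Subring.subset_closure (Or.inr ⟨l, rfl⟩)) : π l ∈ R₀.toSubring)
  have : IsNoetherianRing R₀ := isNoetherianRing_of_surjective _ _ f₁ hf₁
  have : IsArtinianRing R₀ := by
    refine (isArtinianRing_iff_isNilpotent_maximalIdeal R₀).2 ⟨N, ?_⟩
    rw [Ideal.zero_eq_bot, eq_bot_iff]
    intro z hz
    have h1 : (maximalIdeal R₀ ^ N).map R₀.val.toRingHom ≤ ⊥ := by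
      rw [Ideal.map_pow, ← hN]
      exact Ideal.pow_right_mono ((Ideal.map_le_iff_le_comap (f := R₀.val.toRingHom) (K := maximalIdeal Λ)).2
        fun w hw => (hm w).1 hw) N
    exact Submodule.mem_bot _ |>.2 (Subtype.ext ((Submodule.mem_bot Λ).1 (h1 (Ideal.mem_map_of_mem _ hz))))
  refine ⟨R₀, hlocR, hE, inferInstance, hflat, ?_, ?_⟩
  · rw [Algebra.essFiniteType_iff]
    let σ : Finset R₀ := (T₀.subtype (· ∈ R₀)) ∪ Finset.univ.image fun l => (⟨π l, hπR l⟩ : R₀)
    refine ⟨σ, fun z => ?_⟩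
    obtain ⟨a, ha, s, hs, hu, hzs⟩ := hloc z.2
    have hS : ∀ x ∈ Algebra.adjoin k ((AlgHom.id k Λ) '' (T₀ : Set Λ) ∪ Set.range π),
        ∃ y ∈ Algebra.adjoin k (σ : Set R₀), (y : Λ) = x := by
      intro x hx
      have h1 : x ∈ (Algebra.adjoin k (σ : Set R₀)).map R₀.val := by
        rw [AlgHom.map_adjoin]
        refine Algebra.adjoin_mono ?_ hx
        rintro _ (⟨t, ht, rfl⟩ | ⟨l, rfl⟩)
        · exact ⟨⟨t, hT ⟨t, ht, rfl⟩⟩, Finset.mem_union_left _ (Finset.mem_subtype.2 ht), rfl⟩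
        · exact ⟨⟨π l, hπR l⟩, Finset.mem_union_right _ (Finset.mem_image_of_mem _ (Finset.mem_univ l)), rfl⟩
      exact h1
    obtain ⟨a', ha', haa⟩ := hS a ha
    obtain ⟨s', hs', hss⟩ := hS s hs
    refine ⟨s', hs', (hiff s').2 (hss ▸ hu), ?_⟩
    rwa [show z * s' = a' from Subtype.ext (by show (z : Λ) * s' = a'; rw [hss, haa, hzs])]
  · refine le_antisymm (Ideal.map_le_iff_le_comap.2 fun z hz => (hm z).1 hz) ?_
    rw [← hπ, Submodule.span_le]
    rintro _ ⟨l, rfl⟩
    exact Ideal.mem_map_of_mem (algebraMap R₀ Λ)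
      ((hm ⟨π l, hπR l⟩).2 (hπ ▸ Submodule.subset_span ⟨l, rfl⟩))

theorem finite_ker_of_finite_h1 {k K : Type u} [Field k] [Field K] [Algebra k K]
    (hH : Module.Finite K (Algebra.H1Cotangent k K)) :
    Module.Finite K (LinearMap.ker (KaehlerDifferential.mapBaseChange (⊥ : Subfield k) k K)) := by
  rw [(Algebra.H1Cotangent.exact_δ_mapBaseChange (⊥ : Subfield k) k K).linearMap_ker_eq]
  exact Module.Finite.range _

end Groth.Agent.Lib.Smoothing.Char.Artinian
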