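import Groth.Agent.Lib.SymGr.GeomRegular
import Groth.Agent.Lib.SymGr.RegularField
import Groth.Agent.Lib.SymGr.BaseChange
import Groth.Prelude.Def_Found

/-!
# Local consequences of geometric regularity in characteristic `p`
-/

universe u

open IsLocalRing
open scoped TensorProduct

namespace Groth.Agent.Lib.Smoothing.Char.Inj

theorem regular_and_injective {k Λ : Type u} [Field k] (p : ℕ) [Fact p.Prime] [CharP k p]
    [CommRing Λ] [Algebra k Λ] [IsNoetherianRing Λ] (h : _root_.CAlg.IsGeometricallyRegular k Λ)
    (q : Ideal Λ) [q.IsPrime] (L : Type u) [CommRing L] [IsLocalRing L] [Algebra Λ L]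
    [IsLocalization.AtPrime L q] [Algebra k L] [IsScalarTower k Λ L] :
    IsRegularLocalRing L ∧
      Function.Injective ((KaehlerDifferential.mapBaseChange ℤ k L).lTensor
        (ResidueField L)) ∧
      Function.Injective ((KaehlerDifferential.mapBaseChange (⊥ : Subfield k) k L).lTensor
        (ResidueField L)) := by
  have : IsNoetherianRing L := IsLocalization.isNoetherianRing q.primeCompl L inferInstance
  have hreg : ∀ (E : Type u) [Field E] [Algebra k E], Module.Finite k E →
      IsRegularRing (E ⊗[k] L) := by
    intro E _ _ hE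
    let ψ : E ⊗[k] Λ →ₐ[E] E ⊗[k] L :=
      Algebra.TensorProduct.map (AlgHom.id E E) (IsScalarTower.toAlgHom k Λ L)
    let _ : Algebra (E ⊗[k] Λ) (E ⊗[k] L) := ψ.toRingHom.toAlgebra
    have : IsScalarTower E (E ⊗[k] Λ) (E ⊗[k] L) :=
      IsScalarTower.of_algebraMap_eq fun x => (ψ.commutes x).symm
    have hloc : IsLocalization
        (q.primeCompl.map (Algebra.TensorProduct.includeRight (R := k) (A := E) (B := Λ)))
        (E ⊗[k] L) :=
      IsLocalization.tensorProduct_tensorProduct_right k E q.primeCompl L
        (by ext x; simp [RingHom.algebraMap_toAlgebra, ψ])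
    have := h E hE
    exact Groth.Agent.Lib.SymGr.BaseChange.isRegularRing_of_isLocalization
      (q.primeCompl.map (Algebra.TensorProduct.includeRight (R := k) (A := E) (B := Λ))) _
  have : IsRegularRing (k ⊗[k] L) := hreg k inferInstance
  have hk : IsRegularLocalRing L := by
    have : IsRegularRing L :=
      IsRegularRing.of_ringEquiv (Algebra.TensorProduct.lid k L).toRingEquiv
    exact IsRegularLocalRing.of_isRegularRing_of_isLocalRing _
  have hbot := Groth.Agent.Lib.SymGr.GeomRegular.injective_of_forall_regular p
    fun E _ _ hE _ => hreg E hE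
  refine ⟨hk, ((Groth.Agent.Lib.SymGr.RegularField.iff_regular_and_injective_int).1
    (Groth.Agent.Lib.SymGr.OverField.iff_symGr_and_injective_bot.2
      ⟨(Groth.Agent.Lib.SymGr.RegularField.symGrBijective_iff k).2 hk,
        hbot⟩)).2, hbot⟩

end Groth.Agent.Lib.Smoothing.Char.Inj
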