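import Groth.Agent.S14424
import Groth.Agent.Lib.Depth.Span
import Groth.Agent.Lib.JacCrit.FlatRegular
import Groth.Agent.Lib.SymGr.BaseChange
import Mathlib.RingTheory.RegularLocalRing.Polynomial

/-!
# Regular sequences from lower bounds on heights
-/

universe u

open IsLocalRing RingTheory.Sequence

namespace Groth.Agent.Lib.Smoothing.Char.RegSeq

theorem isWeaklyRegular_of_height {S : Type u} [CommRing S] [IsRegularRing S] [IsLocalRing S]
    (rs : List S) (hmem : ∀ r ∈ rs, r ∈ maximalIdeal S)
    (h : ∀ (Q : Ideal S) [Q.IsPrime], (∀ r ∈ rs, r ∈ Q) → (rs.length : ℕ∞) ≤ Q.height) :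
    IsWeaklyRegular S rs := by
  have : LocCoh.IsCohenMacaulayRing S :=
    { isCohenMacaulayLocalRing_localization := fun p _ =>
        Groth.Agent.Lib.JacCrit.FlatRegular.isCohenMacaulayLocalRing (Localization.AtPrime p) }
  have hne : Ideal.ofList rs ≠ ⊤ := fun h => (maximalIdeal.isMaximal S).ne_top
    (top_le_iff.1 (h.ge.trans (Ideal.span_le.2 hmem)))
  refine Groth.Agent.Lib.Depth.Span.isWeaklyRegular_of_idealDepth_eq rs S hmem ?_
  rw [(Groth.Agent.S14424.result S).1 this _ hne, Ideal.height_eq_inf_minimalPrimes]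
  refine le_iInf₂ fun J hJ => ?_
  have : J.IsPrime := hJ.isPrime
  exact h J fun r hr => hJ.1.2 (Ideal.subset_span hr)

/-- Global form: `v` is a nonzerodivisor modulo the elements of `l`. -/
theorem mem_of_mul_mem {P : Type u} [CommRing P] [IsRegularRing P] (l : List P) (v : P)
    (h : ∀ (Q : Ideal P) [Q.IsPrime], (∀ r ∈ l, r ∈ Q) → v ∈ Q → ((l.length + 1 : ℕ) : ℕ∞) ≤ Q.height)
    (z : P) (hz : v * z ∈ Ideal.ofList l) : z ∈ Ideal.ofList l := by
  refine Ideal.mem_of_localization_maximal fun M hM => ?_
  let PM := Localization.AtPrime M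
  let alg := algebraMap P PM
  have hz' : alg v * alg z ∈ (Ideal.ofList l).map alg := by
    rw [← map_mul]; exact Ideal.mem_map_of_mem _ hz
  by_cases hl : ∀ r ∈ l, r ∈ M
  · by_cases hv : v ∈ M
    · have : IsRegularRing PM := Groth.Agent.Lib.SymGr.BaseChange.isRegularRing_of_isLocalization M.primeCompl PM
      have hreg := isWeaklyRegular_of_height (l.map alg ++ [alg v]) ?_ ?_
      · rw [isWeaklyRegular_append_iff, isWeaklyRegular_singleton_iff] at hreg
        have h1 := hreg.2
        have hsm : Ideal.ofList (l.map alg) • (⊤ : Submodule PM PM) = (Ideal.ofList l).map alg := by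
          rw [Ideal.map_ofList]; simp
        have h2 : alg v • (Submodule.Quotient.mk (alg z) :
            PM ⧸ (Ideal.ofList (l.map alg) • ⊤ : Submodule PM PM)) = alg v • 0 := by
          rw [smul_zero, ← Submodule.Quotient.mk_smul, Submodule.Quotient.mk_eq_zero, hsm]
          exact hz'
        have h3 := h1 h2
        rw [Submodule.Quotient.mk_eq_zero, hsm] at h3
        exact h3
      · intro r hr
        rcases List.mem_append.1 hr with hr | hr
        · obtain ⟨a, ha, rfl⟩ := List.mem_map.1 hr
          exact (IsLocalization.AtPrime.to_map_mem_maximal_iff PM M a).2 (hl a ha)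
        · rw [List.mem_singleton.1 hr]
          exact (IsLocalization.AtPrime.to_map_mem_maximal_iff PM M v).2 hv
      · intro Q _ hQ
        rw [← IsLocalization.height_under M.primeCompl Q, List.length_append, List.length_map,
          List.length_singleton]
        refine h (Q.under P) (fun a ha => hQ _ (List.mem_append_left _ (List.mem_map.2 ⟨a, ha, rfl⟩))) ?_
        exact hQ _ (List.mem_append_right _ (List.mem_singleton.2 rfl))
    · have hu : IsUnit (alg v) := IsLocalization.map_units PM (⟨v, hv⟩ : M.primeCompl)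
      exact (Ideal.unit_mul_mem_iff_mem _ hu).1 hz'
  · push Not at hl
    obtain ⟨r, hr, hrM⟩ := hl
    have : (Ideal.ofList l).map alg = ⊤ := Ideal.eq_top_of_isUnit_mem _
      (Ideal.mem_map_of_mem _ (Ideal.subset_span hr : r ∈ Ideal.ofList l))
      (IsLocalization.map_units PM (⟨r, hrM⟩ : M.primeCompl))
    rw [this]
    trivial

end Groth.Agent.Lib.Smoothing.Char.RegSeq
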