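import Groth.Agent.Lib.Smoothing.Char.Core
import Groth.Agent.Lib.Smoothing.SeparableResidue
import Groth.Agent.S6829

/-!
# Resolving at a geometrically regular point in characteristic `p`
-/

universe u

open MvPolynomial IsLocalRing
open scoped TensorProduct

namespace Groth.Agent.Lib.Smoothing.Char.Resolve

/-- The singular ideal goes into the singular ideal of a base change. -/
theorem singularIdeal_tensor {R A R' : Type u} [CommRing R] [CommRing A] [Algebra R A]
    [Algebra.FinitePresentation R A] [CommRing R'] [Algebra R R'] {a : A}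
    (ha : a ∈ _root_.Smoothing.singularIdeal R A) :
    (1 : R') ⊗ₜ[R] a ∈ _root_.Smoothing.singularIdeal R' (R' ⊗[R] A) := by
  have := SingularComp.smooth_away_of_mem ha
  let Aa := Localization.Away a
  let ψ : R' ⊗[R] A →ₐ[R'] R' ⊗[R] Aa :=
    Algebra.TensorProduct.map (AlgHom.id R' R') (IsScalarTower.toAlgHom R A Aa)
  let _ : Algebra (R' ⊗[R] A) (R' ⊗[R] Aa) := ψ.toRingHom.toAlgebra
  have : IsScalarTower R' (R' ⊗[R] A) (R' ⊗[R] Aa) :=
    IsScalarTower.of_algebraMap_eq fun x => (ψ.commutes x).symm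
  have hloc : IsLocalization ((Submonoid.powers a).map
      (Algebra.TensorProduct.includeRight (R := R) (A := R') (B := A))) (R' ⊗[R] Aa) :=
    IsLocalization.tensorProduct_tensorProduct_right R R' (Submonoid.powers a) Aa
      (by ext x; simp [RingHom.algebraMap_toAlgebra, ψ])
  rw [Submonoid.map_powers] at hloc
  have : IsLocalization (Submonoid.powers ((1 : R') ⊗ₜ[R] a)) (R' ⊗[R] Aa) := hloc
  have hsm : Algebra.Smooth R' (Localization.Away ((1 : R') ⊗ₜ[R] a)) :=
    Algebra.Smooth.of_equiv ((IsLocalization.algEquiv (Submonoid.powers ((1 : R') ⊗ₜ[R] a))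
      (Localization.Away ((1 : R') ⊗ₜ[R] a)) (R' ⊗[R] Aa)).restrictScalars R').symm
  rw [SingularComp.mem_singularIdeal_iff]
  intro Q hQp hQ
  exact (Algebra.basicOpen_subset_smoothLocus_iff_smooth.2 hsm) (show (⟨Q, hQp⟩ : PrimeSpectrum _) ∈ _ from hQ)

/-- Resolution at a prime of height zero from a factorization through the local ring of the base. -/
theorem resolvable_of_factor {R A Λ : Type u} [CommRing R] [IsNoetherianRing R] [CommRing A]
    [Algebra R A] [Algebra.FinitePresentation R A] [CommRing Λ] [Algebra R Λ] (φ : A →ₐ[R] Λ)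
    (q : Ideal Λ) [q.IsPrime] {Rp Λq : Type u} [CommRing Rp] [Algebra R Rp]
    [IsLocalization.AtPrime Rp (q.comap (algebraMap R Λ))]
    [CommRing Λq] [Algebra Λ Λq] [IsLocalization.AtPrime Λq q] [Algebra R Λq] [IsScalarTower R Λ Λq]
    [Algebra Rp Λq] [IsScalarTower R Rp Λq]
    (hq : ∀ x ∈ q, ∃ (N : ℕ) (s : Λ), s ∉ q ∧ s * x ^ N = 0)
    (g : A →ₐ[R] Rp) (hg : ∀ a, algebraMap Rp Λq (g a) = algebraMap Λ Λq (φ a)) :
    _root_.Smoothing.Resolvable R φ q := by
  by_cases hle : _root_.Smoothing.singRad R φ ≤ q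
  · obtain ⟨C, _, _, hC, α, β, hαβ, hnot⟩ := Delocalize.exists_delocalized φ q (Rp := Rp) (Λq := Λq)
      (B' := Rp) g (Algebra.ofId Rp Λq) hg (fun P _ _ => ResolveDimZero.isSmoothAt_of_smooth P)
    refine ResolveDimZero.exists_glue φ α β hαβ q hnot fun a ha => ?_
    obtain ⟨N, s, hs, hN⟩ := hq (φ a) (hle (Ideal.le_radical (Ideal.mem_map_of_mem φ ha)))
    exact ⟨N, s, hs, hN⟩
  · exact ⟨A, inferInstance, inferInstance, inferInstance, AlgHom.id R A, φ, AlgHom.ext fun _ => rfl,
      le_rfl, hle⟩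

set_option maxHeartbeats 1600000 in
/-- The resolution over the smooth model, modulo the eighth powers. -/
theorem resolvable_model {P' : Type u} [CommRing P'] {R'' : Type u} [CommRing R'']
    [IsNoetherianRing R''] [Algebra P' R''] {Λ : Type u} [CommRing Λ] [Algebra R'' Λ] [Algebra P' Λ]
    [IsScalarTower P' R'' Λ] {C : Type u} [CommRing C] [Algebra P' C] [Algebra.FinitePresentation P' C]
    (φC : C →ₐ[P'] Λ) (q : Ideal Λ) [q.IsPrime] (L : Type u) [CommRing L] [Algebra Λ L]
    [IsLocalization.AtPrime L q] {d : ℕ} (x : Fin d → P') (M : ℕ)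
    (hM : 0 < M) (hxq : ∀ l, algebraMap P' Λ (x l) ∈ q)
    (hgenq : q.map (algebraMap Λ L) = Ideal.span (Set.range fun l => algebraMap Λ L (algebraMap P' Λ (x l))))
    (hR : ∀ (i : Fin d) (z : R''), algebraMap P' R'' (x i) * z ∈
        Ideal.span (Set.range fun l : {l : Fin d // (l : ℕ) < (i : ℕ)} =>
          algebraMap P' R'' (x (l : Fin d)) ^ (8 * M)) →
      z ∈ Ideal.span (Set.range fun l : {l : Fin d // (l : ℕ) < (i : ℕ)} =>
          algebraMap P' R'' (x (l : Fin d)) ^ (8 * M)))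
    (hΛ : ∀ i : Fin d, ∀ y : Λ ⧸ Ideal.span (Set.range fun j : {j : Fin d // (j : ℕ) < (i : ℕ)} =>
        algebraMap P' Λ (x j) ^ (8 * M)),
      Ideal.Quotient.mk _ (algebraMap P' Λ (x i)) ^ 2 * y = 0 →
        Ideal.Quotient.mk _ (algebraMap P' Λ (x i)) * y = 0)
    (hstd : ∀ i, _root_.Smoothing.IsStrictlyStandard P' C (algebraMap P' C (x i ^ M)))
    (hlift : ∀ (T : Type u) [CommRing T] (ψ : R'' →+* T),
        (∀ l, ψ (algebraMap P' R'' (x l)) ^ (8 * M) = 0) →
        (∀ u, algebraMap R'' Λ u ∉ q → IsUnit (ψ u)) →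
        ∃ gC : C →+* T, (∀ z, gC (algebraMap P' C z) = ψ (algebraMap P' R'' z)) ∧
          ∀ (Ω : Type u) [CommRing Ω] (χ : T →+* Ω) (η : L →+* Ω),
            (∀ u, χ (ψ u) = η (algebraMap Λ L (algebraMap R'' Λ u))) →
            (∀ l, η (algebraMap Λ L (algebraMap P' Λ (x l))) ^ (8 * M) = 0) →
            ∀ c, χ (gC c) = η (algebraMap Λ L (φC c))) :
    _root_.Smoothing.Resolvable R'' (Algebra.TensorProduct.lift (Algebra.ofId R'' Λ) φC
      fun _ _ => Commute.all _ _) q := by
  classical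
  let φ'' : R'' ⊗[P'] C →ₐ[R''] Λ :=
    Algebra.TensorProduct.lift (Algebra.ofId R'' Λ) φC fun _ _ => Commute.all _ _
  show _root_.Smoothing.Resolvable R'' φ'' q
  let π : Fin d → R'' := fun l => algebraMap P' R'' (x l ^ M)
  have hπΛ : ∀ l, algebraMap R'' Λ (π l) = algebraMap P' Λ (x l) ^ M := fun l => by
    show algebraMap R'' Λ (algebraMap P' R'' (x l ^ M)) = _
    rw [← IsScalarTower.algebraMap_apply, map_pow]
  let K : Ideal R'' := Ideal.span (Set.range fun i => π i ^ 8)
  let C'' := R'' ⊗[P'] C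
  let J : Ideal Λ := K.map (algebraMap R'' Λ)
  have hJeq : J = Ideal.span (Set.range fun l => algebraMap P' Λ (x l) ^ (8 * M)) := by
    show Ideal.map _ (Ideal.span _) = _
    rw [Ideal.map_span, ← Set.range_comp]
    simp only [Function.comp_def, map_pow, hπΛ, ← pow_mul, mul_comm M 8]
  have hJq : J ≤ q := by
    rw [hJeq, Ideal.span_le]
    rintro _ ⟨l, rfl⟩
    exact Ideal.pow_mem_of_mem _ (hxq l) _ (by omega)
  let q₀ : Ideal (Λ ⧸ J) := q.map (Ideal.Quotient.mk J)
  have hq₀ : q₀.IsPrime :=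
    Ideal.map_isPrime_of_surjective Ideal.Quotient.mk_surjective (by rwa [Ideal.mk_ker])
  have hq₀c : q₀.comap (Ideal.Quotient.mk J) = q := by
    rw [Ideal.comap_map_of_surjective' _ Ideal.Quotient.mk_surjective, Ideal.mk_ker, sup_eq_left.2 hJq]
  let φK : (C'' ⧸ K.map (algebraMap R'' C'')) →ₐ[R'' ⧸ K] (Λ ⧸ J) :=
    { Ideal.Quotient.lift (K.map (algebraMap R'' C''))
        ((Ideal.Quotient.mk J).comp φ''.toRingHom) (fun z hz => by
          refine (Ideal.map_le_iff_le_comap (K := RingHom.ker ((Ideal.Quotient.mk J).comp φ''.toRingHom))).2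
            ?_ hz
          intro t ht
          show Ideal.Quotient.mk J (φ'' (algebraMap R'' C'' t)) = 0
          rw [AlgHom.commutes, Ideal.Quotient.eq_zero_iff_mem]
          exact Ideal.mem_map_of_mem _ ht) with
      commutes' := fun t => by
        obtain ⟨t, rfl⟩ := Ideal.Quotient.mk_surjective t
        show Ideal.Quotient.mk J (φ'' (algebraMap R'' C'' t)) = Ideal.Quotient.mk J (algebraMap R'' Λ t)
        rw [AlgHom.commutes] }
  have hCK : Algebra.FinitePresentation (R'' ⧸ K) (C'' ⧸ K.map (algebraMap R'' C'')) := by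
    have : Algebra.FinitePresentation R'' (C'' ⧸ K.map (algebraMap R'' C'')) :=
      Algebra.FinitePresentation.quotient (Ideal.FG.map (IsNoetherian.noetherian K) _)
    exact Algebra.FinitePresentation.of_restrict_scalars_finitePresentation R'' (R'' ⧸ K) _
  let p₀ : Ideal (R'' ⧸ K) := q₀.comap (algebraMap (R'' ⧸ K) (Λ ⧸ J))
  let Rp := Localization.AtPrime p₀
  let Λq := Localization.AtPrime q₀
  have hup : ∀ s : p₀.primeCompl, IsUnit (algebraMap (R'' ⧸ K) Λq s) := fun s => by
    rw [IsScalarTower.algebraMap_apply (R'' ⧸ K) (Λ ⧸ J) Λq]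
    exact IsLocalization.map_units Λq (⟨algebraMap (R'' ⧸ K) (Λ ⧸ J) s, s.2⟩ : q₀.primeCompl)
  let _ : Algebra Rp Λq := (IsLocalization.lift (S := Rp) hup).toAlgebra
  have : IsScalarTower (R'' ⧸ K) Rp Λq :=
    IsScalarTower.of_algebraMap_eq fun z => (IsLocalization.lift_eq hup z).symm
  -- the factorization
  let ψ : R'' →+* Rp := (algebraMap (R'' ⧸ K) Rp).comp (Ideal.Quotient.mk K)
  have hψx : ∀ l, ψ (algebraMap P' R'' (x l)) ^ (8 * M) = 0 := fun l => by
    show algebraMap (R'' ⧸ K) Rp (Ideal.Quotient.mk K _) ^ (8 * M) = 0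
    rw [← map_pow, ← map_pow, Ideal.Quotient.eq_zero_iff_mem.2, map_zero]
    refine Ideal.subset_span ⟨l, ?_⟩
    show algebraMap P' R'' (x l ^ M) ^ 8 = _
    rw [map_pow, ← pow_mul, mul_comm]
  have hψu : ∀ u, algebraMap R'' Λ u ∉ q → IsUnit (ψ u) := fun u hu =>
    IsLocalization.map_units Rp (⟨Ideal.Quotient.mk K u, fun h => hu (hq₀c.le h)⟩ : p₀.primeCompl)
  obtain ⟨gC, hgC, hcompat⟩ := hlift Rp ψ hψx hψu
  have hψ' : ∀ z, algebraMap R'' Rp z = ψ z := fun z =>
    IsScalarTower.algebraMap_apply R'' (R'' ⧸ K) Rp z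
  have : IsScalarTower P' R'' Rp := inferInstance
  let gCa : C →ₐ[P'] Rp :=
    { gC with commutes' := fun z => (hgC z).trans ((hψ' _).symm.trans (IsScalarTower.algebraMap_apply P' R'' Rp z).symm) }
  let g'' : C'' →ₐ[R''] Rp := Algebra.TensorProduct.lift (Algebra.ofId R'' Rp) gCa fun _ _ => Commute.all _ _
  let g : (C'' ⧸ K.map (algebraMap R'' C'')) →ₐ[R'' ⧸ K] Rp :=
    { Ideal.Quotient.lift (K.map (algebraMap R'' C'')) g''.toRingHom (fun z hz => by
          refine (Ideal.map_le_iff_le_comap (K := RingHom.ker g''.toRingHom)).2 ?_ hz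
          intro t ht
          show g'' (algebraMap R'' C'' t) = 0
          rw [AlgHom.commutes]
          rw [hψ']
          show algebraMap (R'' ⧸ K) Rp (Ideal.Quotient.mk K t) = 0
          rw [Ideal.Quotient.eq_zero_iff_mem.2 ht, map_zero]) with
      commutes' := fun t => by
        obtain ⟨t, rfl⟩ := Ideal.Quotient.mk_surjective t
        show g'' (algebraMap R'' C'' t) = algebraMap (R'' ⧸ K) Rp (Ideal.Quotient.mk K t)
        rw [AlgHom.commutes, hψ']
        rfl }
  have hη : ∀ s : q.primeCompl, IsUnit (((algebraMap (Λ ⧸ J) Λq).comp (Ideal.Quotient.mk J)) s) := fun s =>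
    IsLocalization.map_units Λq (⟨Ideal.Quotient.mk J s, fun h => s.2 (hq₀c.le h)⟩ : q₀.primeCompl)
  let η : L →+* Λq := IsLocalization.lift (M := q.primeCompl) (S := L) hη
  have hηe : ∀ z, η (algebraMap Λ L z) = algebraMap (Λ ⧸ J) Λq (Ideal.Quotient.mk J z) :=
    IsLocalization.lift_eq hη
  have hχψ : ∀ u, algebraMap Rp Λq (ψ u) = η (algebraMap Λ L (algebraMap R'' Λ u)) := fun u => by
    rw [hηe]
    show algebraMap Rp Λq (algebraMap (R'' ⧸ K) Rp (Ideal.Quotient.mk K u)) = _
    rw [← IsScalarTower.algebraMap_apply, IsScalarTower.algebraMap_apply (R'' ⧸ K) (Λ ⧸ J) Λq]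
    rfl
  have hηπ : ∀ l, η (algebraMap Λ L (algebraMap P' Λ (x l))) ^ (8 * M) = 0 := fun l => by
    rw [hηe, ← map_pow, ← map_pow, Ideal.Quotient.eq_zero_iff_mem.2, map_zero]
    rw [hJeq]
    exact Ideal.subset_span ⟨l, rfl⟩
  have hgφ : ∀ a, algebraMap Rp Λq (g a) = algebraMap (Λ ⧸ J) Λq (φK a) := by
    intro a
    obtain ⟨a, rfl⟩ := Ideal.Quotient.mk_surjective a
    show algebraMap Rp Λq (g'' a) = algebraMap (Λ ⧸ J) Λq (Ideal.Quotient.mk J (φ'' a))
    rw [← hηe]
    induction a using TensorProduct.induction_on with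
    | zero => simp only [map_zero]
    | add a b ha hb => simp only [map_add, ha, hb]
    | tmul u c =>
      show algebraMap Rp Λq (algebraMap R'' Rp u * gC c) = η (algebraMap Λ L (algebraMap R'' Λ u * φC c))
      rw [hψ', map_mul, map_mul, map_mul, hχψ, hcompat Λq (algebraMap Rp Λq) η hχψ hηπ c]
  have hnil : ∀ z ∈ q₀, ∃ (N : ℕ) (s : Λ ⧸ J), s ∉ q₀ ∧ s * z ^ N = 0 := by
    intro z hz
    obtain ⟨z, rfl⟩ := Ideal.Quotient.mk_surjective z
    have hzq : z ∈ q := hq₀c.le hz
    have h1 : IsNilpotent (η (algebraMap Λ L z)) := by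
      have h2 : algebraMap Λ L z ∈ q.map (algebraMap Λ L) := Ideal.mem_map_of_mem _ hzq
      rw [hgenq] at h2
      refine mem_nilradical.1 ((Ideal.span_le (I := (nilradical Λq).comap η)).2 ?_ h2)
      rintro _ ⟨l, rfl⟩
      exact ⟨8 * M, hηπ l⟩
    rw [hηe] at h1
    obtain ⟨N, hN⟩ := h1
    rw [← map_pow] at hN
    obtain ⟨⟨s, hs⟩, hsN⟩ := (IsLocalization.map_eq_zero_iff q₀.primeCompl Λq _).1 hN
    exact ⟨N, s, hs, hsN⟩
  have hres : _root_.Smoothing.Resolvable (R'' ⧸ K) φK q₀ :=
    resolvable_of_factor φK q₀ (Rp := Rp) (Λq := Λq) hnil g hgφ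
  refine ResolveMod.resolvable_of_mod φ'' q π ?_ ?_ (fun i => ?_) K rfl φK (fun c => rfl) hres
  · intro i z hz
    obtain ⟨z, rfl⟩ := Ideal.Quotient.mk_surjective z
    rw [← map_pow, ← map_mul, Ideal.Quotient.eq_zero_iff_mem] at hz
    rw [← map_mul, Ideal.Quotient.eq_zero_iff_mem]
    simp only [π, map_pow, ← pow_mul, mul_comm M 8] at hz ⊢
    suffices h : ∀ (m : ℕ) (z : R''), algebraMap P' R'' (x i) ^ m * z ∈
        Ideal.span (Set.range fun l : {l : Fin d // (l : ℕ) < (i : ℕ)} =>
          algebraMap P' R'' (x (l : Fin d)) ^ (8 * M)) →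
        z ∈ Ideal.span (Set.range fun l : {l : Fin d // (l : ℕ) < (i : ℕ)} =>
          algebraMap P' R'' (x (l : Fin d)) ^ (8 * M)) from Ideal.mul_mem_left _ _ (h _ z hz)
    intro m
    induction m with
    | zero => intro z hz; simpa using hz
    | succ m ih =>
      intro z hz
      rw [pow_succ, mul_assoc] at hz
      exact hR i z (ih _ hz)
  · intro i z hz
    obtain ⟨z, rfl⟩ := Ideal.Quotient.mk_surjective z
    rw [← map_pow, ← map_mul, Ideal.Quotient.eq_zero_iff_mem] at hz
    rw [← map_mul, Ideal.Quotient.eq_zero_iff_mem]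
    simp only [hπΛ, ← pow_mul, mul_comm M 8] at hz ⊢
    have h1 := DesingularizeLift.pow_ann_of_sq (hΛ i) (M * 2) (Ideal.Quotient.mk _ z) (by
      rw [← map_pow, ← map_mul, Ideal.Quotient.eq_zero_iff_mem, pow_succ,
        mul_comm (algebraMap P' Λ (x i) ^ (M * 2)), mul_assoc]
      exact Ideal.mul_mem_left _ _ hz)
    rw [← map_mul, Ideal.Quotient.eq_zero_iff_mem] at h1
    obtain ⟨M', hM'⟩ := Nat.exists_eq_succ_of_ne_zero hM.ne'
    rw [show algebraMap P' Λ (x i) ^ M * z =
      algebraMap P' Λ (x i) ^ M' * (algebraMap P' Λ (x i) * z) by rw [hM', pow_succ]; ring]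
    exact Ideal.mul_mem_left _ _ h1
  · have h1 := (Groth.Agent.S6829.result (R' := R'') (algebraMap P' C (x i ^ M))).2 (hstd i)
    convert h1 using 1
    show algebraMap R'' (R'' ⊗[P'] C) (algebraMap P' R'' (x i ^ M)) = _
    rw [Algebra.TensorProduct.algebraMap_apply, Algebra.algebraMap_self, RingHom.id_apply,
      Algebra.algebraMap_eq_smul_one (x i ^ M), TensorProduct.smul_tmul, ← Algebra.algebraMap_eq_smul_one]

set_option maxHeartbeats 1600000 in
theorem resolvable_of_parameters {k A Λ : Type u} [Field k] (p : ℕ) [Fact p.Prime] [CharP k p] [CommRing A]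
    [Algebra k A] [CommRing Λ] [Algebra k Λ] [IsNoetherianRing Λ] (φ : A →ₐ[k] Λ) (q : Ideal Λ) [q.IsPrime]
    (L : Type u) [CommRing L] [IsRegularLocalRing L] [Algebra Λ L] [IsLocalization.AtPrime L q]
    [Algebra k L] [IsScalarTower k Λ L]
    (hinj : Function.Injective ((KaehlerDifferential.mapBaseChange ℤ k L).lTensor (ResidueField L)))
    (hinj' : Function.Injective ((KaehlerDifferential.mapBaseChange (⊥ : Subfield k) k L).lTensor
      (ResidueField L)))
    {d : ℕ} [Algebra (MvPolynomial (Fin d) k) Λ] [IsScalarTower k (MvPolynomial (Fin d) k) Λ]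
    (hd : ringKrullDim L = d)
    (hgenL : Ideal.span (Set.range fun l =>
      algebraMap Λ L (algebraMap (MvPolynomial (Fin d) k) Λ (X l))) = maximalIdeal L)
    (hgenq : q.map (algebraMap Λ L) = Ideal.span (Set.range fun l =>
      algebraMap Λ L (algebraMap (MvPolynomial (Fin d) k) Λ (X l))))
    (hxq : ∀ l, algebraMap (MvPolynomial (Fin d) k) Λ (X l) ∈ q)
    {C : Type u} [CommRing C] [Algebra (MvPolynomial (Fin d) k) C] [Algebra k C]
    [IsScalarTower k (MvPolynomial (Fin d) k) C] [Algebra.FinitePresentation (MvPolynomial (Fin d) k) C]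
    (φC : C →ₐ[MvPolynomial (Fin d) k] Λ) (α : A →ₐ[k] C) (hαφ : ∀ y, φC (α y) = φ y)
    (hαsing : ∀ b ∈ _root_.Smoothing.singularIdeal k A,
      α b ∈ _root_.Smoothing.singularIdeal (MvPolynomial (Fin d) k) C)
    (M : ℕ) (hM : 0 < M)
    (hstd : ∀ i, _root_.Smoothing.IsStrictlyStandard (MvPolynomial (Fin d) k) C
      (algebraMap (MvPolynomial (Fin d) k) C (X i ^ M)))
    (hann : ∀ i : Fin d, ∀ y : Λ ⧸ Ideal.span (Set.range fun j : {j : Fin d // (j : ℕ) < (i : ℕ)} =>
        algebraMap (MvPolynomial (Fin d) k) Λ (X (j : Fin d)) ^ (8 * M)),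
      Ideal.Quotient.mk _ (algebraMap (MvPolynomial (Fin d) k) Λ (X i)) ^ 2 * y = 0 →
        Ideal.Quotient.mk _ (algebraMap (MvPolynomial (Fin d) k) Λ (X i)) * y = 0)
    {r : ℕ} (a : Fin r → A)
    (hI : (_root_.Smoothing.singularIdeal k A).map φ = Ideal.span (Set.range fun j => φ (a j)))
    (haq : ∀ j, φ (a j) ∈ q) : _root_.Smoothing.Resolvable k φ q := by
  classical
  obtain ⟨R'', _, _, _, _, θR, hfp, hnzd, hsingR, ⟨ρ, hρ, hρq⟩, hlift⟩ :=
    Core.exists_smooth_model p q L hinj hinj' hd hgenL φC (8 * M) (by omega)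
      (fun j => φ (a j)) haq
  let _ : Algebra R'' Λ := θR.toRingHom.toAlgebra
  have : IsScalarTower (MvPolynomial (Fin d) k) R'' Λ :=
    IsScalarTower.of_algebraMap_eq fun z => (θR.commutes z).symm
  have : IsNoetherianRing R'' := Algebra.FiniteType.isNoetherianRing k R''
  have hres := resolvable_model φC q L (X : Fin d → MvPolynomial (Fin d) k) M hM hxq hgenq hnzd hann hstd hlift
  obtain ⟨D, _, _, hD, g, h, hgh, hle, hnle⟩ := hres
  let _ : Algebra k D := ((algebraMap R'' D).comp (algebraMap k R'')).toAlgebra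
  have : IsScalarTower k R'' D := IsScalarTower.of_algebraMap_eq' rfl
  have : Algebra.FinitePresentation k D := Algebra.FinitePresentation.trans k R'' D
  have : IsScalarTower k R'' Λ := IsScalarTower.of_algebraMap_eq fun c => by
    rw [IsScalarTower.algebraMap_apply k (MvPolynomial (Fin d) k) Λ,
      IsScalarTower.algebraMap_apply (MvPolynomial (Fin d) k) R'' Λ,
      ← IsScalarTower.algebraMap_apply k (MvPolynomial (Fin d) k) R'']
  let hk : D →ₐ[k] Λ := h.restrictScalars k
  have hprod : ∀ u ∈ _root_.Smoothing.singularIdeal k R'', ∀ y ∈ _root_.Smoothing.singularIdeal R'' D,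
      θR u * h y ∈ (_root_.Smoothing.singularIdeal k D).map hk := by
    intro u hu y hy
    have h1 : algebraMap R'' D u * y ∈ _root_.Smoothing.singularIdeal k D := by
      rw [SingularComp.mem_singularIdeal_iff] at hu hy ⊢
      intro Q _ hQ
      exact SingularComp.isSmoothAt_comp Q (hu _ fun h' => hQ (Ideal.mul_mem_right _ _ h'))
        (hy Q fun h' => hQ (Ideal.mul_mem_left _ _ h'))
    have h2 : hk (algebraMap R'' D u * y) = θR u * h y := by
      show h (algebraMap R'' D u * y) = _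
      rw [map_mul, AlgHom.commutes]
      rfl
    exact h2 ▸ Ideal.mem_map_of_mem hk h1
  let inr : C →ₐ[MvPolynomial (Fin d) k] R'' ⊗[MvPolynomial (Fin d) k] C := Algebra.TensorProduct.includeRight
  have hφ : ∀ y, h (g (inr (α y))) = φ y := fun y => by
    rw [show h (g (inr (α y))) = _ from DFunLike.congr_fun hgh _]
    show Algebra.TensorProduct.lift (Algebra.ofId R'' Λ) φC _ ((1 : R'') ⊗ₜ α y) = φ y
    rw [Algebra.TensorProduct.lift_tmul, map_one, one_mul, hαφ]
  refine ⟨D, inferInstance, inferInstance, inferInstance,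
    { (g.toRingHom.comp (inr.toRingHom.comp α.toRingHom)) with
      commutes' := fun c => by
        show g (inr (α (algebraMap k A c))) = _
        rw [AlgHom.commutes, IsScalarTower.algebraMap_apply k (MvPolynomial (Fin d) k) C, AlgHom.commutes,
          IsScalarTower.algebraMap_apply (MvPolynomial (Fin d) k) R'' (R'' ⊗[_] C), AlgHom.commutes,
          ← IsScalarTower.algebraMap_apply k (MvPolynomial (Fin d) k) R'']
        rfl },
    hk, AlgHom.ext hφ, ?_, fun hc => ?_⟩
  · refine Ideal.radical_le_radical_iff.2 ?_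
    rw [Ideal.map_le_iff_le_comap]
    intro b hb
    have h1 : φ b ∈ _root_.Smoothing.singRad R'' h := by
      refine hle (Ideal.le_radical ?_)
      have h2 := Ideal.mem_map_of_mem (Algebra.TensorProduct.lift (Algebra.ofId R'' Λ) φC
        fun _ _ => Commute.all _ _) (singularIdeal_tensor (R' := R'') (hαsing b hb))
      rwa [Algebra.TensorProduct.lift_tmul, map_one, one_mul, hαφ] at h2
    obtain ⟨N, hN⟩ := h1
    refine ⟨N + 1, ?_⟩
    have h3 : φ b ∈ (_root_.Smoothing.singularIdeal k R'').map θR.toRingHom := by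
      refine (hI.le.trans (Ideal.span_le.2 ?_)) (Ideal.mem_map_of_mem φ hb)
      rintro _ ⟨j, rfl⟩
      obtain ⟨u, hu, hua⟩ := hsingR j
      show φ (a j) ∈ Ideal.map θR.toRingHom _
      rw [← hua]
      exact Ideal.mem_map_of_mem θR.toRingHom hu
    rw [pow_succ']
    refine (show (_root_.Smoothing.singularIdeal k R'').map θR.toRingHom *
      (_root_.Smoothing.singularIdeal R'' D).map h ≤ _ from ?_) (Ideal.mul_mem_mul h3 hN)
    rw [Ideal.map, Ideal.map, Ideal.span_mul_span, Ideal.span_le]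
    rintro _ ⟨_, ⟨u, hu, rfl⟩, _, ⟨y, hy, rfl⟩, rfl⟩
    exact hprod u hu y hy
  · obtain ⟨y, hy, hyq⟩ : ∃ y ∈ _root_.Smoothing.singularIdeal R'' D, h y ∉ q := by
      by_contra! hcon
      exact hnle ((Ideal.IsPrime.radical_le_iff inferInstance).2 (Ideal.map_le_iff_le_comap.2 hcon))
    rcases Ideal.IsPrime.mem_or_mem inferInstance (hc (Ideal.le_radical (hprod ρ hρ y hy))) with h' | h'
    · exact hρq h'
    · exact hyq h'


set_option maxHeartbeats 1600000 in
/-- A point at which the local ring is geometrically regular can be resolved in characteristic `p`. -/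
theorem resolvable {k A Λ : Type u} [Field k] (p : ℕ) [Fact p.Prime] [CharP k p] [CommRing A]
    [Algebra k A] [Algebra.FinitePresentation k A] [CommRing Λ] [Algebra k Λ] [IsNoetherianRing Λ]
    (φ : A →ₐ[k] Λ) (q : Ideal Λ) [q.IsPrime] (hmin : q ∈ (_root_.Smoothing.singRad k φ).minimalPrimes)
    (L : Type u) [CommRing L] [IsRegularLocalRing L] [Algebra Λ L] [IsLocalization.AtPrime L q]
    [Algebra k L] [IsScalarTower k Λ L]
    (hinj : Function.Injective ((KaehlerDifferential.mapBaseChange ℤ k L).lTensor (ResidueField L)))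
    (hinj' : Function.Injective ((KaehlerDifferential.mapBaseChange (⊥ : Subfield k) k L).lTensor
      (ResidueField L))) :
    _root_.Smoothing.Resolvable k φ q := by
  classical
  have : IsNoetherianRing A := Algebra.FiniteType.isNoetherianRing k A
  obtain ⟨r, a, ha⟩ := Submodule.fg_iff_exists_fin_generating_family.1
    (IsNoetherian.noetherian (_root_.Smoothing.singularIdeal k A))
  let I : Ideal Λ := (_root_.Smoothing.singularIdeal k A).map φ
  have hI : I = Ideal.span (Set.range fun j => φ (a j)) := by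
    show Ideal.map φ _ = _
    rw [← ha]
    change Ideal.map φ (Ideal.span (Set.range a)) = _
    rw [Ideal.map_span, ← Set.range_comp]
    rfl
  have hIq : I ≤ q := Ideal.le_radical.trans hmin.1.2
  let alg := algebraMap Λ (Localization.AtPrime q)
  obtain ⟨n₀, hn₀⟩ : ∃ n, (q.map alg) ^ n ≤ I.map alg := by
    refine Ideal.exists_pow_le_of_le_radical_of_fg ?_ (IsNoetherian.noetherian _)
    rw [Ideal.radical_eq_sInf]
    refine le_sInf fun P hP => ?_
    obtain ⟨hIP, hPp⟩ := hP
    have hle : P.comap alg ≤ q := fun z hz => by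
      by_contra hzq
      exact hPp.ne_top (Ideal.eq_top_of_isUnit_mem _ hz
        (IsLocalization.map_units (Localization.AtPrime q) (⟨z, hzq⟩ : q.primeCompl)))
    refine Ideal.map_le_iff_le_comap.2 (hmin.2 ⟨inferInstance, ?_⟩ hle)
    exact (Ideal.IsPrime.radical_le_iff inferInstance).2 (Ideal.map_le_iff_le_comap.1 hIP)
  obtain ⟨n, hn0, hn⟩ : ∃ n, 0 < n ∧ (q.map alg) ^ n ≤ I.map alg :=
    ⟨n₀ + 1, Nat.succ_pos _, (Ideal.pow_le_pow_right (Nat.le_succ _)).trans hn₀⟩
  rw [← Ideal.map_pow] at hn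
  let eL : Localization.AtPrime q ≃+* L :=
    (IsLocalization.algEquiv q.primeCompl (Localization.AtPrime q) L).toRingEquiv
  have heL : ∀ z, eL (alg z) = algebraMap Λ L z :=
    (IsLocalization.algEquiv q.primeCompl (Localization.AtPrime q) L).commutes
  have : IsRegularLocalRing (Localization.AtPrime q) := IsRegularLocalRing.of_ringEquiv eL.symm
  obtain ⟨d, hd, -⟩ := Groth.Agent.Lib.Regular.Quotient.exists_dim_eq (R := Localization.AtPrime q)
  obtain ⟨B, _, _, _, _, α, hBfp, hxB, hαB, hBmap⟩ := Linearize.exists_linearized (d := d) a ha n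
  obtain ⟨C, _, _, ι, ret, M, hCfp, hret, hM0, hstd, hιsing⟩ :=
    StrictRetract.exists_retract (R := MvPolynomial (Fin d) k)
      (fun i => algebraMap (MvPolynomial (Fin d) k) B (X i)) hxB
  obtain ⟨π, hπgen, hπI, hπann⟩ := Parameters.exists_parameters I q n (8 * M) d hn0 hn hd
  let _ : Algebra (MvPolynomial (Fin d) k) Λ := (aeval (R := k) π).toRingHom.toAlgebra
  have : IsScalarTower k (MvPolynomial (Fin d) k) Λ :=
    IsScalarTower.of_algebraMap_eq fun c => ((aeval (R := k) π).commutes c).symm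
  have hπX : ∀ i, algebraMap (MvPolynomial (Fin d) k) Λ (X i) = π i := fun i => aeval_X π i
  obtain ⟨hB, hhB⟩ := hBmap Λ φ (fun i => by rw [hπX, ← hI]; exact hπI i)
  let _ : Algebra k C := ((algebraMap (MvPolynomial (Fin d) k) C).comp
    (algebraMap k (MvPolynomial (Fin d) k))).toAlgebra
  have : IsScalarTower k (MvPolynomial (Fin d) k) C := IsScalarTower.of_algebraMap_eq' rfl
  have hgenq : q.map alg = Ideal.span (Set.range fun l => alg (algebraMap (MvPolynomial (Fin d) k) Λ (X l))) := by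
    simp only [hπX]
    exact hπgen.symm
  have hxq : ∀ l, algebraMap (MvPolynomial (Fin d) k) Λ (X l) ∈ q := fun l => by
    rw [hπX, ← IsLocalization.AtPrime.to_map_mem_maximal_iff (Localization.AtPrime q) q,
      ← Localization.AtPrime.map_eq_maximalIdeal, ← hπgen]
    exact Ideal.subset_span ⟨l, rfl⟩
  have hgenL : q.map (algebraMap Λ L) = Ideal.span (Set.range fun l =>
      algebraMap Λ L (algebraMap (MvPolynomial (Fin d) k) Λ (X l))) := by
    have h1 := congrArg (Ideal.map eL.toRingHom) hgenq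
    rw [Ideal.map_map, Ideal.map_span, ← Set.range_comp] at h1
    rw [show algebraMap Λ L = eL.toRingHom.comp alg from RingHom.ext fun z => (heL z).symm]
    exact h1
  have hdL : ringKrullDim L = d := (ringKrullDim_eq_of_ringEquiv eL).symm.trans hd
  exact resolvable_of_parameters p φ q L hinj hinj' hdL
    (hgenL.symm.trans (IsLocalization.AtPrime.map_eq_maximalIdeal q L)) hgenL hxq (hB.comp ret)
    ((ι.restrictScalars k).comp α)
    (fun y => by
      show hB (ret (ι (α y))) = φ y
      rw [show ret (ι (α y)) = α y from DFunLike.congr_fun hret _, hhB])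
    (fun b hb => hιsing _ (hαB b hb)) M hM0
    (fun i => by
      have h1 := hstd i
      rwa [AlgHom.commutes, ← map_pow] at h1)
    (fun i => by
      have hset : (fun j : {j : Fin d // (j : ℕ) < (i : ℕ)} => π j ^ (8 * M)) =
          fun j : {j : Fin d // (j : ℕ) < (i : ℕ)} =>
            algebraMap (MvPolynomial (Fin d) k) Λ (X (j : Fin d)) ^ (8 * M) :=
        funext fun j => by rw [hπX]
      have h := hπann i
      rw [hset, ← hπX i] at h
      exact h) a hI (fun j => hIq (hI.ge (Ideal.subset_span ⟨j, rfl⟩)))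

end Groth.Agent.Lib.Smoothing.Char.Resolve
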